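import Cfsg.Agent.VAN.Lin.PslK
import Cfsg.Agent.VAN.Alt.WA
import Cfsg.Agent.H614.GLn.GB1
import Cfsg.Agent.H120.GLB.Ctx
import Cfsg.Agent.H156.PSLCov
import Cfsg.Agent.H183.PolyCount
import Cfsg.Agent.H716.VzOut
import Cfsg.Agent.H732.OZ.LRow

/-!
# S4942: `GL_n(2)` by labels, and the row `IsPSL` (helper78)

An irreducible character of `GL_n(q)` which vanishes neither at an element with irreducible characteristic polynomial
nor at an element whose characteristic polynomial has an irreducible factor of degree `n - 1` has a single label, of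
degree one, with the row or the column.
-/

set_option autoImplicit false

open Polynomial Cfsg

namespace Cfsg.Agent.VAN.Lin

open Cfsg.Agent.H614.GLn Cfsg.Agent.H577.GLB.Std Cfsg.Agent.H577.GLB.Real Cfsg.Agent.H614.GLn.RSt
open Cfsg.Agent.H139.Cusp

universe u w

/-- at most two characters survive -/
theorem van3_of_two {G : Type u} [Group G] [Finite G] (hperf : commutator G = ⊤) (x y : G) (P Q : (G → ℂ) → Prop)
    (h : ∀ χ, IsIrrCharacter G χ → χ x ≠ 0 → χ y ≠ 0 → P χ ∨ Q χ) (hP : ∀ χ ψ, P χ → P ψ → χ = ψ)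
    (hQ : ∀ χ ψ, Q χ → Q ψ → χ = ψ) : Van3 G := by
  have h1 := h (fun _ => 1) Characters.Core.isIrr_one one_ne_zero one_ne_zero
  by_cases h2 : ∃ ψ, IsIrrCharacter G ψ ∧ ψ ≠ (fun _ => 1) ∧ ψ x ≠ 0 ∧ ψ y ≠ 0
  · obtain ⟨ψ, hψ, k1, k2, k3⟩ := h2
    obtain ⟨g, hg⟩ := H716.VzOut.exists_zero hψ fun h3 => k1 (H956.OZ.Ree.eq_one_of_perfect hperf hψ h3)
    refine ⟨x, y, g, fun χ hχ hne => ?_⟩
    by_contra hc
    rw [not_or, not_or] at hc
    refine hc.2.2 ?_
    rw [← hg]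
    refine congrFun ?_ g
    rcases h χ hχ hc.1 hc.2.1 with a | a <;> rcases h ψ hψ k2 k3 with b | b <;> rcases h1 with c | c
    exacts [hP _ _ a b, hP _ _ a b, absurd (hP _ _ a c) hne, absurd (hQ _ _ b c) k1, absurd (hP _ _ b c) k1,
      absurd (hQ _ _ a c) hne, hQ _ _ a b, hQ _ _ a b]
  · refine ⟨x, y, x, fun χ hχ hne => ?_⟩
    by_contra hc
    rw [not_or, not_or] at hc
    exact h2 ⟨χ, hχ, hne, hc.1, hc.2.1⟩

variable {F : Type u} [Field F]

/-- `h` is a product of primary polynomials with the degrees `D` -/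
def Fac (D : Multiset ℕ) (h : F[X]) : Prop :=
  ∃ s : Multiset F[X], s.prod = h ∧ s.map natDegree = D ∧
    ∀ a ∈ s, ∃ (f : F[X]) (m : ℕ), f.Monic ∧ Irreducible f ∧ a = f ^ m

theorem fac_zero : Fac 0 (1 : F[X]) := ⟨0, rfl, rfl, fun _ h => absurd h (Multiset.notMem_zero _)⟩

theorem Fac.add {D E : Multiset ℕ} {a b : F[X]} (h : Fac D a) (h' : Fac E b) : Fac (D + E) (a * b) := by
  obtain ⟨s, rfl, rfl, hs⟩ := h
  obtain ⟨t, rfl, rfl, ht⟩ := h'
  exact ⟨s + t, Multiset.prod_add s t, Multiset.map_add _ s t,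
    fun a ha => (Multiset.mem_add.1 ha).elim (hs a) (ht a)⟩

theorem Fac.sum {ι : Type*} (s : Finset ι) {D : ι → Multiset ℕ} {a : ι → F[X]} (h : ∀ i ∈ s, Fac (D i) (a i)) :
    Fac (∑ i ∈ s, D i) (∏ i ∈ s, a i) := by
  classical
  induction s using Finset.induction_on with
  | empty => exact fac_zero
  | insert i s hi ih =>
    rw [Finset.sum_insert hi, Finset.prod_insert hi]
    exact (h i (Finset.mem_insert_self i s)).add (ih fun j hj => h j (Finset.mem_insert_of_mem hj))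

theorem Fac.deg {D : Multiset ℕ} {h : F[X]} (hD : Fac D h) : D.sum = h.natDegree := by
  obtain ⟨s, rfl, rfl, hs⟩ := hD
  refine (natDegree_multiset_prod_of_monic s fun a ha => ?_).symm
  obtain ⟨f, m, hf, -, rfl⟩ := hs a ha
  exact hf.pow m

theorem Fac.mem {D : Multiset ℕ} {h f : F[X]} (hD : Fac D h) (hf : Irreducible f) (hd : f ∣ h)
    (hlt : h.natDegree < 2 * f.natDegree) : f.natDegree ∈ D := by
  have h0 := hD.deg
  obtain ⟨s, rfl, rfl, hs⟩ := hD
  obtain ⟨a, ha, hfa⟩ := hf.prime.exists_mem_multiset_dvd hd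
  obtain ⟨g, m, hg, hgi, rfl⟩ := hs a ha
  have h1 : f.natDegree = g.natDegree :=
    natDegree_eq_of_degree_eq (degree_eq_degree_of_associated (hf.associated_of_dvd hgi (hf.prime.dvd_of_dvd_pow hfa)))
  have h2 : (g ^ m).natDegree ∈ s.map natDegree := Multiset.mem_map_of_mem _ ha
  have h3 := Multiset.single_le_sum (fun _ _ => Nat.zero_le _) _ h2
  rw [natDegree_pow] at h2 h3
  have h4 : m ≠ 0 := by
    rintro rfl
    exact hf.not_dvd_one (by simpa using hfa)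
  have h5 : m = 1 := by
    by_contra h6
    have : 2 * g.natDegree ≤ m * g.natDegree := Nat.mul_le_mul_right _ (by omega)
    omega
  rw [h5, one_mul] at h2
  rwa [h1]

/-- `f` does not vanish at some endomorphism with characteristic polynomial `h` -/
def NZ (f : Fam F) (h : F[X]) : Prop :=
  ∃ (V : Type u) (_ : AddCommGroup V) (_ : Module F V) (_ : Finite V) (T : V →ₗ[F] V), f.fn V T ≠ 0 ∧ T.charpoly = h

theorem nz_one {h : F[X]} (H : NZ (1 : Fam F) h) : h = 1 := by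
  obtain ⟨V, _, _, _, T, h1, rfl⟩ := H
  by_cases h2 : Subsingleton V
  · refine (LinearMap.charpoly_monic T).natDegree_eq_zero.1 ?_
    rw [LinearMap.charpoly_natDegree, Module.finrank_zero_of_subsingleton]
  · exact absurd (Fam.one_fn' V h2 T) h1

theorem nz_mul {f g : Fam F} {h : F[X]} (H : NZ (f * g) h) : ∃ a b, h = a * b ∧ NZ f a ∧ NZ g b := by
  obtain ⟨V, _, _, _, T, h1, rfl⟩ := H
  rw [Fam.mul_fn] at h1
  obtain ⟨W, hW⟩ : ∃ W, f.term g V T W ≠ 0 := by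
    by_contra hc
    push Not at hc
    exact h1 (by rw [finsum_congr hc, finsum_zero])
  by_cases h2 : W ≤ W.comap T
  · rw [Fam.term_of h2] at hW
    have := finite_quot W
    exact ⟨_, _, (charpoly_eq_mul W T h2).trans (mul_comm _ _),
      ⟨_, _, _, inferInstance, _, left_ne_zero_of_mul hW, rfl⟩, ⟨_, _, _, inferInstance, _, right_ne_zero_of_mul hW, rfl⟩⟩
  · exact absurd (Fam.term_of_not h2) hW

theorem nz_sum {ι : Type*} {s : Finset ι} {f : ι → Fam F} {h : F[X]} (H : NZ (∑ i ∈ s, f i) h) :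
    ∃ i ∈ s, NZ (f i) h := by
  obtain ⟨V, _, _, _, T, h1, rfl⟩ := H
  rw [H941.GLn.sum_fn] at h1
  obtain ⟨i, hi, h2⟩ := Finset.exists_ne_zero_of_sum_ne_zero h1
  exact ⟨i, hi, V, _, _, inferInstance, T, h2, rfl⟩

theorem nz_smul {c : ℂ} {f : Fam F} {h : F[X]} (H : NZ (c • f) h) : c ≠ 0 ∧ NZ f h := by
  obtain ⟨V, _, _, _, T, h1, rfl⟩ := H
  rw [Fam.smul_fn] at h1
  exact ⟨left_ne_zero_of_mul h1, V, _, _, inferInstance, T, right_ne_zero_of_mul h1, rfl⟩

theorem nz_prod {ι : Type*} (s : Finset ι) {f : ι → Fam F} {h : F[X]} (H : NZ (∏ i ∈ s, f i) h) :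
    ∃ a : ι → F[X], h = ∏ i ∈ s, a i ∧ ∀ i ∈ s, NZ (f i) (a i) := by
  classical
  induction s using Finset.induction_on generalizing h with
  | empty => exact ⟨fun _ => 1, nz_one H, fun _ hi => absurd hi (Finset.notMem_empty _)⟩
  | insert i s hi ih =>
    rw [Finset.prod_insert hi] at H
    obtain ⟨a, b, rfl, ha, hb⟩ := nz_mul H
    obtain ⟨c, rfl, hc⟩ := ih hb
    refine ⟨Function.update c i a, ?_, fun j hj => ?_⟩
    · rw [Finset.prod_insert hi, Function.update_self, Finset.prod_update_of_notMem hi]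
    · rcases Finset.mem_insert.1 hj with rfl | hj'
      · rwa [Function.update_self]
      · rw [Function.update_of_ne (ne_of_mem_of_not_mem hj' hi)]
        exact hc j hj'

variable {K : Type w} [Field K] [Algebra F K] {θ : K →*₀ ℂ} {M : ℕ} {Q : ℤ}

theorem nz_rv {k : ℕ} {c : ZMod M} {h : F[X]} (H : NZ (piA θ M (rv Q M k c)) h) : Fac {k} h := by
  unfold rv at H
  split_ifs at H with h1
  · rw [piA, MvPolynomial.aeval_X] at H
    obtain ⟨V, _, _, _, T, h2, rfl⟩ := H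
    rw [Rc, Rf, comp_fn] at h2
    split_ifs at h2 with h3
    · rw [kapF_fn] at h2
      have : Nontrivial V := Module.nontrivial_of_finrank_pos (R := F) (by rw [h3]; exact h1.1)
      obtain ⟨f, m, k1, k2, -, k3⟩ := (kap_eq_zero_or _ (lba_add θ _) T).resolve_right h2
      refine ⟨{T.charpoly}, Multiset.prod_singleton _, ?_, fun a ha => ⟨f, m, k1, k2, (Multiset.mem_singleton.1 ha).trans k3⟩⟩
      rw [Multiset.map_singleton, LinearMap.charpoly_natDegree, h3]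
    · exact absurd rfl h2
  · rw [map_zero] at H
    obtain ⟨V, _, _, _, T, h2, -⟩ := H
    exact absurd rfl h2

theorem nz_pw (c : ZMod M) (ν : Multiset ℕ) {h : F[X]} (H : NZ (piA θ M (ν.map fun j => Pw Q M j c).prod) h) :
    Fac (ν.map fun j => j * perZ Q M c) h := by
  induction ν using Multiset.induction_on generalizing h with
  | empty =>
    rw [Multiset.map_zero, Multiset.prod_zero, map_one] at H
    rw [nz_one H]
    exact fac_zero
  | cons j ν ih =>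
    rw [Multiset.map_cons, Multiset.prod_cons, map_mul] at H
    obtain ⟨a, b, rfl, ha, hb⟩ := nz_mul H
    rw [Multiset.map_cons, ← Multiset.singleton_add]
    exact (nz_rv ha).add (ih hb)

theorem nz_sch {m : ℕ} (c : ZMod M) (β : Fin m → ℕ) {h : F[X]} (H : NZ (piA θ M (Sch Q M c β)) h) :
    ∃ ν : Multiset ℕ, ν.sum = H577.GLB.Std.bsz β ∧ (∀ j ∈ ν, 0 < j) ∧ H614.FM ν β ≠ 0 ∧
      Fac (ν.map fun j => j * perZ Q M c) h := by
  rw [Sch, map_sum] at H
  obtain ⟨ν, -, H⟩ := nz_sum H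
  rw [map_smul] at H
  obtain ⟨h1, h2⟩ := nz_smul H
  refine ⟨ν.parts, ν.parts_sum, fun j hj => ν.parts_pos hj, fun h3 => h1 ?_, nz_pw c _ h2⟩
  rw [h3, Int.cast_zero, zero_div]

variable [NeZero M]

open Classical in
theorem nz_schP {m : ℕ} (t : ZMod M → Fin m → ℕ) {h : F[X]} (H : NZ (piA θ M (SchP Q M t)) h) :
    ∃ ν : ZMod M → Multiset ℕ, (∀ c, canon Q M c = c → (ν c).sum = H577.GLB.Std.bsz (t c) ∧ (∀ j ∈ ν c, 0 < j) ∧
      H614.FM (ν c) (t c) ≠ 0) ∧
      Fac (∑ c ∈ Finset.univ.filter (fun c : ZMod M => canon Q M c = c), (ν c).map fun j => j * perZ Q M c) h := by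
  rw [SchP, map_prod] at H
  obtain ⟨a, rfl, ha⟩ := nz_prod _ H
  choose! ν h1 h2 h3 h4 using fun c hc => nz_sch c (t c) (ha c hc)
  refine ⟨ν, fun c hc => ?_, Fac.sum _ h4⟩
  have h5 : c ∈ Finset.univ.filter (fun c : ZMod M => canon Q M c = c) := Finset.mem_filter.2 ⟨Finset.mem_univ _, hc⟩
  exact ⟨h1 c h5, h2 c h5, h3 c h5⟩

/-- **The labels of the surviving characters.** -/
theorem lab_of (hQ : IsUnit (Q : ZMod M)) {m n : ℕ} (hn : 3 ≤ n) (t : LabZ Q M m n) {a b f : F[X]}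
    (ha : NZ (piA θ M (SchP Q M t.t)) a) (hb : NZ (piA θ M (SchP Q M t.t)) b) (hai : Irreducible a)
    (han : a.natDegree = n) (hf : Irreducible f) (hfb : f ∣ b) (hfn : f.natDegree + 1 = n) (hbn : b.natDegree = n) :
    ∃ c₀ : ZMod M, (Q : ZMod M) * c₀ = c₀ ∧ (∀ c, c ≠ c₀ → H577.GLB.Std.bsz (t.t c) = 0) ∧
      ((∀ x, x ∈ Set.range (t.t c₀) ↔ x + 1 < m ∨ (0 < m ∧ x + 1 = m + n)) ∨
        (∀ x, x ∈ Set.range (t.t c₀) ↔ x ≤ m ∧ x + n ≠ m)) := by
  classical
  obtain ⟨ν, k1, k2⟩ := nz_schP t.t ha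
  obtain ⟨μ, l1, l2⟩ := nz_schP t.t hb
  have k3 := k2.mem hai dvd_rfl (by omega)
  have l3 := l2.mem hf hfb (by omega)
  have k4 := k2.deg
  rw [Multiset.mem_sum] at k3 l3
  obtain ⟨c₀, hc₀, k3⟩ := k3
  obtain ⟨c₁, hc₁, l3⟩ := l3
  obtain ⟨j, hj, k5⟩ := Multiset.mem_map.1 k3
  obtain ⟨i, hi, l5⟩ := Multiset.mem_map.1 l3
  rw [Multiset.sum_sum, ← Finset.add_sum_erase _ _ hc₀, ← Multiset.cons_erase hj, Multiset.map_cons,
    Multiset.sum_cons, k5] at k4
  have zero : ∀ (c : ZMod M) (s : Multiset ℕ), (∀ j ∈ s, 0 < j) → (s.map fun j => j * perZ Q M c).sum = 0 → s = 0 := by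
    intro c s hs h0
    rw [Multiset.eq_zero_iff_forall_notMem]
    intro x hx
    have h1 := Multiset.single_le_sum (fun _ _ => Nat.zero_le _) _
      (Multiset.mem_map_of_mem (fun j => j * perZ Q M c) hx)
    have h2 := Nat.mul_pos (hs x hx) (perZ_pos hQ c)
    omega
  have hc₀' := (Finset.mem_filter.1 hc₀).2
  have hc₁' := (Finset.mem_filter.1 hc₁).2
  have k6 : (ν c₀).erase j = 0 :=
    zero c₀ _ (fun x hx => (k1 c₀ hc₀').2.1 x (Multiset.mem_of_mem_erase hx)) (by omega)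
  have k7 : c₁ = c₀ := by
    by_contra hne
    have h1 := Finset.sum_eq_zero_iff.1 (show ∑ c ∈ (Finset.univ.filter (fun c : ZMod M => canon Q M c = c)).erase c₀,
      ((ν c).map fun j => j * perZ Q M c).sum = 0 by omega) c₁ (Finset.mem_erase.2 ⟨hne, hc₁⟩)
    have h2 := (k1 c₁ hc₁').1
    rw [zero c₁ _ (k1 c₁ hc₁').2.1 h1, ← (l1 c₁ hc₁').1] at h2
    have h3 := Multiset.single_le_sum (fun _ _ => Nat.zero_le _) _ hi
    have h4 := (l1 c₁ hc₁').2.1 i hi
    rw [Multiset.sum_zero] at h2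
    omega
  subst k7
  have k8 : perZ Q M c₁ = 1 := by
    have h1 : perZ Q M c₁ ∣ f.natDegree + 1 := by
      rw [hfn, ← han, ← k5]
      exact dvd_mul_left _ _
    exact Nat.dvd_one.1 ((Nat.dvd_add_right (by rw [← l5]; exact dvd_mul_left _ _)).1 h1)
  rw [k8, mul_one] at k5 l5
  have k9 : ν c₁ = {n} := by
    rw [← Multiset.cons_erase hj, k6, k5, han]
    rfl
  obtain ⟨m1, -, m2⟩ := k1 c₁ hc₀'
  obtain ⟨-, -, m3⟩ := l1 c₁ hc₀'
  rw [k9] at m1 m2
  rw [← Multiset.cons_erase hi, show i = n - 1 by omega] at m3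
  refine ⟨c₁, Function.minimalPeriod_eq_one_iff_isFixedPt.1 k8, fun c hc => ?_,
    Alt.wa_range (by omega) (t.mono c₁).injective m2 (Alt.hk_of (by omega) m3)⟩
  have h1 := t.sum
  rw [← Finset.add_sum_erase _ _ (Finset.mem_univ c₁), ← m1, Multiset.sum_singleton] at h1
  exact Finset.sum_eq_zero_iff.1 (show ∑ c ∈ Finset.univ.erase c₁, H577.GLB.Std.bsz (t.t c) = 0 by omega) c
    (Finset.mem_erase.2 ⟨hc, Finset.mem_univ _⟩)

theorem vac_of {m : ℕ} {β : Fin m → ℕ} (hβ : StrictMono β) (h : H577.GLB.Std.bsz β = 0) : β = fun i : Fin m => (i : ℕ) := by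
  have h1 : ∀ i ∈ Finset.univ, ((i : Fin m) : ℕ) ≤ β i := fun i _ => H614.strictMono_le hβ i
  have h2 := Finset.sum_le_sum h1
  unfold H577.GLB.Std.bsz at h
  funext i
  exact ((Finset.sum_eq_sum_iff_of_le h1).1 (by omega) i (Finset.mem_univ i)).symm

theorem exists_gl {n : ℕ} {h : F[X]} (hm : h.Monic) (hn : h.natDegree = n) (h0 : h.coeff 0 ≠ 0) :
    ∃ g : GL (Fin n) F, (Matrix.toLin' (g : Matrix (Fin n) (Fin n) F)).charpoly = h := by
  obtain ⟨A, hA⟩ := H183.PolyCount.exists_charpoly n hm hn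
  refine ⟨Matrix.GeneralLinearGroup.mkOfDetNeZero A ?_, (Matrix.charpoly_toLin' A).trans hA⟩
  rw [Matrix.det_eq_sign_charpoly_coeff, hA]
  exact mul_ne_zero (pow_ne_zero _ (neg_ne_zero.2 one_ne_zero)) h0

theorem exists_irr [Finite F] {n : ℕ} (hn : 2 ≤ n) :
    ∃ f : F[X], f.Monic ∧ Irreducible f ∧ f.natDegree = n ∧ f.coeff 0 ≠ 0 := by
  have := Fintype.ofFinite F
  obtain ⟨p, hp, hd⟩ := H156.PSLCov.exists_irred (F := F) n (by omega)
  have h1 : Irreducible (p * C p.leadingCoeff⁻¹) :=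
    irreducible_mul_leadingCoeff_inv.2 hp
  have h2 : (p * C p.leadingCoeff⁻¹).natDegree = n := by rw [natDegree_mul_leadingCoeff_self_inv, hd]
  refine ⟨_, monic_mul_leadingCoeff_inv hp.ne_zero, h1, h2, fun h0 => ?_⟩
  have h3 := natDegree_eq_of_degree_eq
    (degree_eq_degree_of_associated (irreducible_X.associated_of_dvd h1 (X_dvd_iff.2 h0)))
  rw [natDegree_X] at h3
  omega

/-- **`GL_n(2)`**, `n ≥ 3` -/
theorem van3_gl_two [Finite F] (hF : Nat.card F = 2) {n : ℕ} (hn : 3 ≤ n) (hperf : commutator (GL (Fin n) F) = ⊤) :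
    Van3 (GL (Fin n) F) := by
  obtain ⟨K, _, _, θ, M, _, ctx⟩ := H120.GLB.Ctx.exists_ctx F n
  have hQ := H112.GLB.isUnit_card ctx
  obtain ⟨hb1, hb2⟩ := isLab_bij ctx (m := n) le_rfl le_rfl
  obtain ⟨a, a1, a2, a3, a4⟩ := exists_irr (F := F) (n := n) (by omega)
  obtain ⟨f, f1, f2, f3, f4⟩ := exists_irr (F := F) (n := n - 1) (by omega)
  have b3 : (f * (X - C 1)).natDegree = n := by
    rw [f1.natDegree_mul (monic_X_sub_C 1), natDegree_X_sub_C]
    omega
  obtain ⟨x, hx⟩ := exists_gl a1 a3 a4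
  obtain ⟨y, hy⟩ := exists_gl (f1.mul (monic_X_sub_C 1)) b3 (by
    rw [mul_coeff_zero]
    exact mul_ne_zero f4 (by simp))
  let P : (ℕ → Prop) → (GL (Fin n) F → ℂ) → Prop := fun R χ => ∃ (h : IsIrrCharacter _ χ)
    (t : LabZ (Nat.card F) M n n), IsLab θ M n n ⟨χ, h⟩ t ∧ (∀ c, c ≠ 0 → H577.GLB.Std.bsz (t.t c) = 0) ∧
      ∀ x, x ∈ Set.range (t.t 0) ↔ R x
  have hP : ∀ R χ ψ, P R χ → P R ψ → χ = ψ := by
    rintro R χ ψ ⟨h, t, p1, p2, p3⟩ ⟨h', t', q1, q2, q3⟩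
    obtain rfl : t = t' := by
      refine LabZ.ext (funext fun c => ?_)
      by_cases hc : c = 0
      · rw [hc]
        exact (StrictMono.range_inj (t.mono 0) (t'.mono 0)).1 (Set.ext fun x => (p3 x).trans (q3 x).symm)
      · rw [vac_of (t.mono c) (p2 c hc), vac_of (t'.mono c) (q2 c hc)]
    exact congrArg Subtype.val ((hb2 t).unique p1 q1)
  refine van3_of_two hperf x y (P fun x => x + 1 < n ∨ (0 < n ∧ x + 1 = n + n)) (P fun x => x ≤ n ∧ x + n ≠ n)
    (fun χ hχ h1 h2 => ?_) (hP _) (hP _)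
  obtain ⟨t, ⟨s, hs⟩, -⟩ := hb1 ⟨χ, hχ⟩
  have nz : ∀ g : GL (Fin n) F, χ g ≠ 0 → NZ (piA θ M (SchP (Nat.card F) M t.t))
      (Matrix.toLin' (g : Matrix (Fin n) (Fin n) F)).charpoly := by
    intro g hg
    refine ⟨Fin n → F, _, _, inferInstance, _, ?_, rfl⟩
    have h3 := congrFun hs g
    rw [Om] at h3
    rw [h3, Pi.smul_apply, smul_eq_mul]
    exact mul_ne_zero (Int.cast_ne_zero.2 s.ne_zero) hg
  obtain ⟨c₀, k1, k2, k3⟩ := lab_of hQ hn t (hx ▸ nz x h1) (hy ▸ nz y h2) a2 a3 f2 (dvd_mul_right _ _) (by omega) b3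
  obtain rfl : c₀ = 0 := by
    rw [hF] at k1
    push_cast at k1
    linear_combination k1
  exact k3.imp (fun k => ⟨hχ, t, ⟨s, hs⟩, k2, k⟩) fun k => ⟨hχ, t, ⟨s, hs⟩, k2, k⟩

/-- **The row `IsPSL`.** -/
theorem row_psl : VAN.Row.{u} (fun G _ => IsPSL G) := by
  refine row_psl_of fun F _ _ n hF hn _ => ?_
  have hn3 : 3 ≤ n := by omega
  have e := Cfsg.Agent.LieClassical.FieldTransfer.pslCongr (ι := Fin n)
    (FiniteField.ringEquivOfCardEq (K := F) (K' := ZMod 2) (by rw [hF, ZMod.card]))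
  have hs := H732.OZ.simple_gl n hn3
  refine (van3_gl_two (Nat.card_zmod 2) hn3 (Rk.perfect_of_simple fun h => ?_)).of_equiv
    (e.trans (H732.OZ.pslGL n (by omega))).symm
  let _ : CommGroup (GL (Fin n) (ZMod 2)) := { mul_comm := fun a b => h.is_comm.comm a b }
  have h1 : (Nat.card (GL (Fin n) (ZMod 2))).Prime := IsSimpleGroup.prime_card
  rcases hn with rfl | rfl
  · rw [H732.OZ.gl6_card] at h1
    exact absurd (h1.eq_one_or_self_of_dvd 2 (by norm_num)) (by norm_num)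
  · rw [H732.OZ.gl7_card] at h1
    exact absurd (h1.eq_one_or_self_of_dvd 2 (by norm_num)) (by norm_num)

end Cfsg.Agent.VAN.Lin
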