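import Cfsg.Agent.VAN.Lin.Psu
import Cfsg.Agent.H933.OZ.U42
import Cfsg.Agent.H113.PSU.Facts
import Cfsg.Agent.H167.HasSt
import Cfsg.Agent.Nodes.WittInst
import Cfsg.Agent.CharactersDeep.ColumnBessel
import Cfsg.Agent.CharactersDeep.Tifn
import Cfsg.Agent.Blocks.CliffordCentral

/-!
# S4942: the group `U_4(2)` and the row `PSU_n(q)` (helper78)

The characters which do not vanish at an element of order five are five in number; two of them have degrees `24` and `64`.
All of them are real, and the nontrivial ones have degree `64` or a degree divisible by three.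
-/

set_option autoImplicit false
set_option linter.style.haveILetI false

namespace Cfsg.Agent.VAN.Lin

open Cfsg Subgroup Cfsg.Agent.Characters Cfsg.Agent.CharactersDeep Cfsg.Agent.H686.CharKit
open scoped ComplexConjugate

universe u

theorem u42_even {a : ℕ} (ha : a ∣ 25920) (h1 : a ≠ 1) (h3 : ¬ 3 ∣ a) (h5 : ¬ 5 ∣ a) : 2 ∣ a := by
  have h6 : a.Coprime (3 ^ 4 * 5) :=
    Nat.Coprime.mul_right (Nat.Coprime.pow_right _ ((Nat.Prime.coprime_iff_not_dvd Nat.prime_three).2 h3).symm)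
      ((Nat.Prime.coprime_iff_not_dvd Nat.prime_five).2 h5).symm
  have h7 : a ∣ 2 ^ 6 := h6.dvd_of_dvd_mul_right (by norm_num; exact ha)
  obtain ⟨k, -, rfl⟩ := (Nat.dvd_prime_pow Nat.prime_two).1 h7
  refine dvd_pow_self 2 ?_
  rintro rfl
  exact h1 rfl

theorem u42_arith {a b : ℕ} {s t : ℤ} (ha : a ∣ 25920) (hb : b ∣ 25920) (ha1 : a ≠ 1) (hb1 : b ≠ 1)
    (hs : s = 1 ∨ s = -1) (ht : t = 1 ∨ t = -1) (hsa : (5 : ℤ) ∣ s - a) (htb : (5 : ℤ) ∣ t - b)
    (h : (a : ℤ) * s + b * t = 87) : 3 ∣ a ∧ a ≠ b ∧ a ≠ 24 := by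
  refine ⟨?_, ?_, ?_⟩
  · by_contra h3
    have h4 : ¬ 3 ∣ b := by rcases hs with rfl | rfl <;> rcases ht with rfl | rfl <;> omega
    have h5 := u42_even ha ha1 h3 (by rcases hs with rfl | rfl <;> omega)
    have h6 := u42_even hb hb1 h4 (by rcases ht with rfl | rfl <;> omega)
    rcases hs with rfl | rfl <;> rcases ht with rfl | rfl <;> omega
  · rintro rfl
    rcases hs with rfl | rfl <;> rcases ht with rfl | rfl <;> omega
  · rintro rfl
    have h1 : b = 111 := by rcases hs with rfl | rfl <;> rcases ht with rfl | rfl <;> omega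
    rw [h1] at hb
    exact absurd hb (by norm_num)

section abs

variable {G : Type u} [Group G] [Finite G]

theorem exists_int_of_pow (χ : IrrCharacter G) {y : G}
    (h : ∀ k : ℕ, k.Coprime (Nat.card G) → (χ : G → ℂ) (y ^ k) = (χ : G → ℂ) y) : ∃ a : ℤ, (χ : G → ℂ) y = a := by
  have hχ := Core.isIrr_isCharacter χ.2
  have hint := GaloisBasic.isIntegral_apply hχ y
  obtain ⟨q, hq⟩ := GaloisBasic.exists_rat_of_forall_ringEquiv (hint.tower_top) (fun σ => by
    obtain ⟨k, hk, hσ⟩ := GaloisBasic.exists_pow_of_ringEquiv (G := G) σ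
    rw [hσ _ hχ]
    exact h k hk)
  exact GaloisBasic.exists_int_of_isIntegral hint ⟨q, hq⟩

theorem bessel_int (S : Finset (IrrCharacter G)) {y : G} {v : IrrCharacter G → ℤ}
    (hv : ∀ χ ∈ S, (χ : G → ℂ) y = v χ) {c : ℕ} (hc : Nat.card (centralizer ({y} : Set G)) ≤ c) :
    ∑ χ ∈ S, v χ ^ 2 ≤ c := by
  have h1 := ColumnBessel.sum_norm_sq_le S y
  rw [Finset.sum_congr rfl fun (χ : IrrCharacter G) hχ => show ‖(χ : G → ℂ) y‖ ^ 2 = ((v χ ^ 2 : ℤ) : ℝ) by
    rw [hv χ hχ, Complex.norm_intCast, sq_abs]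
    push_cast
    rfl] at h1
  have h2 : ((∑ χ ∈ S, v χ ^ 2 : ℤ) : ℝ) ≤ ((c : ℤ) : ℝ) := by
    rw [Int.cast_sum]
    refine h1.trans ?_
    exact_mod_cast hc
  exact_mod_cast h2

/-- **The abstract argument.** -/
theorem van3_u42_abs (hG : Nat.card G = 25920) (hperf : commutator G = ⊤) {x z t : G} (hx5 : x ^ 5 ^ 1 = 1)
    (hx1 : x ≠ 1) (hxr : ∀ k : ℕ, k.Coprime (Nat.card G) → IsConj x (x ^ k))
    (hxc : Nat.card (centralizer ({x} : Set G)) ≤ 5) (hz9 : z ^ 3 ^ 2 = 1)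
    (hzr : ∀ k : ℕ, k.Coprime (Nat.card G) → IsConj z (z ^ k) ∨ IsConj z⁻¹ (z ^ k))
    (hzc : Nat.card (centralizer ({z} : Set G)) ≤ 9) (ht : 2 ∣ orderOf t) (A B : IrrCharacter G)
    (hA : charDegree (A : G → ℂ) = 24) (hB : charDegree (B : G → ℂ) = 64) : Van3 G := by
  classical
  haveI := Fintype.ofFinite G
  haveI : Finite (IrrCharacter G) := Core.finite_irr
  haveI := Fintype.ofFinite (IrrCharacter G)
  choose v hv using fun χ : IrrCharacter G => H933.OZ.exists_int_of_conj χ hxr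
  obtain ⟨d, hd⟩ : ∃ d : IrrCharacter G → ℕ, ∀ χ, d χ = charDegree (χ : G → ℂ) := ⟨_, fun _ => rfl⟩
  have hd1 : ∀ χ : IrrCharacter G, (χ : G → ℂ) 1 = d χ := fun χ => by rw [hd, charDegree_irr]
  have hdG : ∀ χ, d χ ∣ 25920 := fun χ => by rw [hd, ← hG]; exact H604.OZ.deg_dvd χ
  have h5 : ∀ χ, (5 : ℤ) ∣ v χ - d χ := fun χ => by
    rw [hd]
    exact_mod_cast H933.OZ.dvd_sub_deg Nat.prime_five χ hx5 (hv χ)
  obtain ⟨O, hO⟩ : ∃ O : IrrCharacter G, (O : G → ℂ) = fun _ => 1 := ⟨⟨_, Core.isIrr_one⟩, rfl⟩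
  have hOd : d O = 1 := by
    have h1 : (d O : ℂ) = 1 := by rw [← hd1, hO]
    exact_mod_cast h1
  have hOv : v O = 1 := by
    have h1 : (v O : ℂ) = 1 := by rw [← hv, hO]
    exact_mod_cast h1
  have hone : ∀ χ, d χ = 1 → χ = O := fun χ h => Subtype.ext
    ((H956.OZ.Ree.eq_one_of_perfect hperf χ.2 (by rw [hd1, h, Nat.cast_one])).trans hO.symm)
  rw [← hd] at hA hB
  have hOA : O ≠ A := fun h => by rw [h, hA] at hOd; omega
  have hOB : O ≠ B := fun h => by rw [h, hB] at hOd; omega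
  have hAB : A ≠ B := fun h => by rw [h, hB] at hA; omega
  set R : Finset (IrrCharacter G) := (Finset.univ.filter fun χ => v χ ≠ 0) \ {O, A, B} with hR
  have hsub : ({O, A, B} : Finset (IrrCharacter G)) ⊆ Finset.univ.filter fun χ => v χ ≠ 0 := by
    intro χ hχ
    rw [Finset.mem_filter]
    refine ⟨Finset.mem_univ _, ?_⟩
    have h6 := h5 χ
    simp only [Finset.mem_insert, Finset.mem_singleton] at hχ
    rcases hχ with rfl | rfl | rfl <;> omega
  have hs3 : ∀ f : IrrCharacter G → ℤ,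
      ∑ χ ∈ Finset.univ.filter fun χ => v χ ≠ 0, f χ = ∑ χ ∈ R, f χ + (f O + (f A + f B)) := fun f => by
    rw [← Finset.sum_sdiff hsub, Finset.sum_insert (by simp [hOA, hOB]), Finset.sum_insert (by simp [hAB]),
      Finset.sum_singleton]
  have hb := bessel_int (Finset.univ.filter fun χ => v χ ≠ 0) (fun χ _ => hv χ) hxc
  rw [hs3, hOv] at hb
  have hR0 : 0 ≤ ∑ χ ∈ R, v χ ^ 2 := Finset.sum_nonneg fun _ _ => sq_nonneg _
  have hvA : v A = -1 := by
    have h6 := h5 A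
    rw [hA] at h6
    have h7 : v A ^ 2 ≤ 4 := by push_cast at hb; nlinarith [sq_nonneg (v B)]
    have h8 : -2 ≤ v A := by nlinarith
    have h9 : v A ≤ 2 := by nlinarith
    omega
  have hvB : v B = -1 := by
    have h6 := h5 B
    rw [hB] at h6
    have h7 : v B ^ 2 ≤ 4 := by push_cast at hb; nlinarith [sq_nonneg (v A)]
    have h8 : -2 ≤ v B := by nlinarith
    have h9 : v B ≤ 2 := by nlinarith
    omega
  rw [hvA, hvB] at hb
  have hR2 : ∑ χ ∈ R, v χ ^ 2 ≤ 2 := by push_cast at hb; linarith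
  have hRv : ∀ χ ∈ R, v χ ≠ 0 := fun χ hχ => (Finset.mem_filter.1 (Finset.mem_sdiff.1 hχ).1).2
  have hRpm : ∀ χ ∈ R, v χ = 1 ∨ v χ = -1 := fun χ hχ => by
    have h6 : v χ ^ 2 ≤ 2 := (Finset.single_le_sum (fun ψ _ => sq_nonneg (v ψ)) hχ).trans hR2
    have h7 := hRv χ hχ
    have h8 : -1 ≤ v χ := by nlinarith
    have h9 : v χ ≤ 1 := by nlinarith
    omega
  have hRc : R.card ≤ 2 := by
    rw [Finset.sum_congr rfl fun χ hχ => show v χ ^ 2 = 1 by rcases hRpm χ hχ with h | h <;> rw [h] <;> rfl,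
      Finset.sum_const, nsmul_eq_mul, mul_one] at hR2
    exact_mod_cast hR2
  have hR1 : ∀ χ ∈ R, d χ ≠ 1 := fun χ hχ h => (Finset.mem_sdiff.1 hχ).2 (by rw [hone χ h]; simp)
  have hreg : ∑ χ ∈ R, (d χ : ℤ) * v χ = 87 := by
    have h6 := Tifn.sum_irr_apply_one_mul hx1
    simp only [hd1, hv] at h6
    have h7 : ∑ χ : IrrCharacter G, (d χ : ℤ) * v χ = 0 := by exact_mod_cast h6
    rw [← Finset.sum_filter_of_ne (p := fun χ => v χ ≠ 0) fun χ _ h => right_ne_zero_of_mul h, hs3, hOd, hOv, hA,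
      hvA, hB, hvB] at h7
    push_cast at h7
    linarith
  obtain ⟨a, b, hab, hRab⟩ : ∃ a b, a ≠ b ∧ R = {a, b} := by
    rw [← Finset.card_eq_two]
    rcases Nat.lt_or_ge R.card 1 with h | h
    · rw [Nat.lt_one_iff, Finset.card_eq_zero] at h
      rw [h, Finset.sum_empty] at hreg
      omega
    rcases h.eq_or_lt with h | h
    · obtain ⟨a, ha⟩ := Finset.card_eq_one.1 h.symm
      have h6 := hRpm a (by rw [ha]; simp)
      have h7 := hdG a
      rw [ha, Finset.sum_singleton] at hreg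
      have h8 : d a = 87 := by rcases h6 with h6 | h6 <;> rw [h6] at hreg <;> omega
      rw [h8] at h7
      exact absurd h7 (by norm_num)
    · omega
  have ha : a ∈ R := by rw [hRab]; simp
  have hb' : b ∈ R := by rw [hRab]; simp
  rw [hRab, Finset.sum_pair hab] at hreg
  obtain ⟨a3, a1, a2⟩ := u42_arith (hdG a) (hdG b) (hR1 a ha) (hR1 b hb') (hRpm a ha) (hRpm b hb') (h5 a) (h5 b) hreg
  obtain ⟨b3, -, b2⟩ := u42_arith (hdG b) (hdG a) (hR1 b hb') (hR1 a ha) (hRpm b hb') (hRpm a ha) (h5 b) (h5 a)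
    (by rw [add_comm]; exact hreg)
  have hall : ∀ χ, v χ ≠ 0 → χ = O ∨ χ = A ∨ χ = B ∨ χ = a ∨ χ = b := fun χ h => by
    by_cases h6 : χ ∈ ({O, A, B} : Finset (IrrCharacter G))
    · simp only [Finset.mem_insert, Finset.mem_singleton] at h6
      tauto
    · have h7 : χ ∈ R := Finset.mem_sdiff.2 ⟨Finset.mem_filter.2 ⟨Finset.mem_univ _, h⟩, h6⟩
      rw [hRab] at h7
      simp only [Finset.mem_insert, Finset.mem_singleton] at h7
      tauto
  have hinj : ∀ χ ψ, v χ ≠ 0 → v ψ ≠ 0 → d χ = d ψ → χ = ψ := fun χ ψ h1 h2 h => by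
    have ha1 := hR1 a ha
    have hb1 := hR1 b hb'
    rcases hall χ h1 with rfl | rfl | rfl | rfl | rfl <;> rcases hall ψ h2 with rfl | rfl | rfl | rfl | rfl <;>
      first | rfl | omega
  refine ⟨x, z, t, fun χ hχ h1 => ?_⟩
  by_cases h0 : χ x = 0
  · exact Or.inl h0
  have hv0 : v ⟨χ, hχ⟩ ≠ 0 := fun h => h0 (by rw [show χ x = _ from hv ⟨χ, hχ⟩, h, Int.cast_zero])
  have hO' : (⟨χ, hχ⟩ : IrrCharacter G) ≠ O := fun h => h1 (by rw [← hO, ← h])
  by_cases h64 : d ⟨χ, hχ⟩ = 64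
  · refine Or.inr (Or.inr (Rk.zero_of_dvd hχ Nat.prime_two (hd1 ⟨χ, hχ⟩) (fun c hc => ?_) ht))
    rw [h64]
    rw [hG] at hc
    exact (Nat.Coprime.pow_left c (show Nat.Coprime 2 405 by norm_num)).dvd_of_dvd_mul_right hc
  have h3 : 3 ∣ d ⟨χ, hχ⟩ := by
    rcases hall _ hv0 with h | h | h | h | h
    · exact absurd h hO'
    · rw [h, hA]; norm_num
    · rw [h] at h64; exact absurd hB h64
    · rw [h]; exact a3
    · rw [h]; exact b3
  have hre : ∀ g, conj (χ g) = χ g := by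
    have h6 : (⟨_, Core.isIrr_conj hχ⟩ : IrrCharacter G) = ⟨χ, hχ⟩ := by
      refine hinj _ _ (fun h => hv0 ?_) hv0 ?_
      · have h7 : conj (χ x) = _ := hv ⟨_, Core.isIrr_conj hχ⟩
        rw [h, Int.cast_zero, map_eq_zero] at h7
        exact absurd h7 h0
      · have h7 : conj (χ 1) = _ := hd1 ⟨_, Core.isIrr_conj hχ⟩
        rw [show χ 1 = _ from hd1 ⟨χ, hχ⟩, map_natCast] at h7
        exact_mod_cast h7.symm
    exact fun g => congrFun (congrArg Subtype.val h6) g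
  obtain ⟨w, hw⟩ := exists_int_of_pow ⟨χ, hχ⟩ (y := z) fun k hk => by
    rcases hzr k hk with h | h
    · exact (H933.OZ.apply_eq_of_isConj _ h).symm
    · rw [← H933.OZ.apply_eq_of_isConj _ h, H933.OZ.apply_inv]
      exact hre z
  have h6 := H933.OZ.dvd_sub_deg Nat.prime_three ⟨χ, hχ⟩ hz9 hw
  rw [← hd] at h6
  have h7 := bessel_int {O, ⟨χ, hχ⟩} (y := z) (v := fun ψ => if ψ = O then 1 else w) (fun ψ hψ => by
    simp only [Finset.mem_insert, Finset.mem_singleton] at hψ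
    rcases hψ with rfl | rfl
    · rw [if_pos rfl, hO, Int.cast_one]
    · rw [if_neg hO', hw]) hzc
  rw [Finset.sum_pair hO'.symm, if_pos rfl, if_neg hO'] at h7
  have h8 : -2 ≤ w := by push_cast at h7; nlinarith
  have h9 : w ≤ 2 := by push_cast at h7; nlinarith
  have h10 : w = 0 := by omega
  refine Or.inr (Or.inl ?_)
  rw [show χ z = _ from hw, h10, Int.cast_zero]

end abs

section model

open Cfsg.Agent.H933.OZ Cfsg.Agent.H933.OZ.Orb Cfsg.Agent.H933.OZ.Cyc Cfsg.Agent.H933.OZ.U42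
open Cfsg.Agent.SporadicA.FieldFour F4 Matrix

set_option maxRecDepth 100000

/-- `GU_4(2)` induces inner automorphisms -/
theorem u42_conj (s : SU 4 F4 2) {y : PSU 4 F4 2} (hy : y ∈ orb s) : IsConj (pr s) y := by
  obtain ⟨g, rfl⟩ := mem_orb.1 hy
  have h1 : (gm g).det ^ (2 + 1) = 1 := LieClassical.GUOrder.det_mul_frob_det hF _ g.2
  obtain ⟨c, hc⟩ : ∃ c, c = (gm g).det ^ 2 := ⟨_, rfl⟩
  have hc3 : c ^ 2 * c = 1 := by
    rw [← pow_succ, hc, ← pow_mul, mul_comm, pow_mul, h1, one_pow]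
  let r : SU 4 F4 2 := ⟨⟨c • gm g, by
    rw [Matrix.det_smul, Fintype.card_fin, hc, ← pow_mul, ← pow_succ, show 2 * 4 + 1 = (2 + 1) * 3 from rfl, pow_mul,
      h1, one_pow]⟩, by
    refine (LieClassical.SUBasic.mem_SU_iff _).2 fun a b => ?_
    change hermForm 4 F4 2 ((c • gm g) *ᵥ a) ((c • gm g) *ᵥ b) = _
    rw [Matrix.smul_mulVec, Matrix.smul_mulVec, LieClassical.GUOrder.herm_smul_left hF,
      LieClassical.GUOrder.herm_smul_right hF, LieClassical.GUOrder.frob_apply, ← mul_assoc, mul_comm c, hc3, one_mul]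
    exact g.2 a b⟩
  have h2 : cg g s * r = r * s := by
    apply sm_inj
    change gm g * sm s * gm g⁻¹ * (c • gm g) = (c • gm g) * sm s
    rw [Matrix.mul_smul, mul_assoc, gm_inv_mul, mul_one, Matrix.smul_mul]
  refine isConj_iff.2 ⟨pr r, ?_⟩
  rw [← map_mul, ← h2, map_mul, mul_inv_cancel_right]

theorem u42_cent (s : SU 4 F4 2) {m : ℕ} (h : Nat.card (GU 4 F4 2) ≤ m * (orb s).card) :
    3 * Nat.card (centralizer ({pr s} : Set (PSU 4 F4 2))) ≤ m := by
  classical
  haveI := Fintype.ofFinite (PSU 4 F4 2)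
  have h1 : (orb s).card ≤ (Finset.univ.filter fun y => IsConj (pr s) y).card :=
    Finset.card_le_card fun y hy => Finset.mem_filter.2 ⟨Finset.mem_univ _, u42_conj s hy⟩
  have h2 : (Finset.univ.filter fun y => IsConj (pr s) y).card = (centralizer ({pr s} : Set (PSU 4 F4 2))).index := by
    have h3 := Blocks.CliffordCentral.card_class_eq_index (pr s)
    have h4 : ((Finset.univ.filter fun y => IsConj (pr s) y).card : ℂ) =
        ((centralizer ({pr s} : Set (PSU 4 F4 2))).index : ℂ) := by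
      convert h3
    exact_mod_cast h4
  have h3 := (centralizer ({pr s} : Set (PSU 4 F4 2))).card_mul_index
  rw [card_G] at h3
  rw [card_GU] at h
  rw [h2] at h1
  have h4 : 0 < (centralizer ({pr s} : Set (PSU 4 F4 2))).index := Nat.pos_of_ne_zero index_ne_zero_of_finite
  refine Nat.le_of_mul_le_mul_right ?_ h4
  rw [mul_assoc, h3]
  exact h.trans (Nat.mul_le_mul_left _ h1)

/-- a matrix of order five -/
def x5M : M := !![z, z, w, z; v, v, z, w; o, w, z, w; w, o, z, w]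
theorem x5_un : x5Mᵀ * x5M.map cj4 = 1 := by decide +kernel
theorem x5_det : x5M.det = 1 := by decide +kernel
/-- an element of order five -/
def x5 : SU 4 F4 2 := mkSU cj4_eq x5M x5_un x5_det hF
theorem sm_x5 : sm x5 = x5M := rfl
/-- its square -/
def x5M2 : M := !![w, v, z, v; o, z, o, w; w, v, w, z; z, o, v, o]
theorem x5_p2 : x5M ^ 2 = x5M2 := (sq x5M).trans (by decide +kernel)
/-- its cube -/
def x5M3 : M := !![v, o, v, z; w, z, w, o; z, o, v, w; w, v, z, o]
theorem x5_p3 : x5M ^ 3 = x5M3 := by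
  rw [pow_succ, x5_p2]
  decide +kernel
theorem x5_p5 : x5M ^ 5 = 1 := by
  rw [show 5 = 3 + 2 from rfl, pow_add, x5_p3, x5_p2]
  decide +kernel

theorem x5_pow : pr x5 ^ 5 = 1 := by
  rw [← map_pow, ← map_one pr]
  congr 1
  apply sm_inj
  rw [sm_pow, sm_x5, x5_p5]
  rfl

theorem x5_ne : pr x5 ≠ 1 := by
  intro h
  rw [← map_one pr] at h
  obtain ⟨c, hc⟩ := smul_of_pr_eq hF (by norm_num) h
  rw [sm_x5] at hc
  revert c
  decide +kernel

theorem x5_card : Nat.card (GU 4 F4 2) ≤ 15 * (orb x5).card :=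
  card_GU_le hF (by norm_num) x5 cs_spec
    (card_le' law4 hF els4_spec (e := ![z, z, z, o]) (E := !![z, z, v, z; z, w, w, o; z, w, z, w; o, w, o, o])
      (E' := !![o, o, z, o; o, w, o, z; w, z, z, z; o, w, w, z]) (by decide +kernel) (by decide +kernel)
      (by decide +kernel) cs_norm (R := [[.z, .z, .w, .z], [.v, .v, .z, .w], [.o, .w, .z, .w], [.w, .o, .z, .w]])
      (by decide +kernel) (tg := [[.o, .v, .o, .o]]) (by decide +kernel) (by decide +kernel))

theorem x5_w2 : Pw x5 2 :=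
  pw_of_mat (s := mkSU cj4_eq !![z, o, w, o; o, z, z, z; z, v, w, w; z, o, o, w] (by decide +kernel)
    (by decide +kernel) hF) (c := o) (by decide +kernel) (by decide +kernel) (by
      rw [sm_x5, x5_p2]
      decide +kernel)

theorem x5_rat : Orb.Rat x5 := by
  refine Rat.of (N := 5) (by rw [card_G]; decide) (by norm_num) x5_pow fun j hj hc => ?_
  interval_cases j
  · exact absurd hc (by decide)
  · exact Pw.one _
  · exact x5_w2
  · exact Pw.mod x5_pow ((x5_w2.mul x5_w2).mul x5_w2) rfl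
  · exact x5_w2.mul x5_w2

theorem van3_u42_model : Van3 (PSU 4 F4 2) := by
  haveI : Fact (Nat.Prime 2) := ⟨Nat.prime_two⟩
  haveI : CharP F4 2 := (CharP.charP_iff_prime_eq_zero Nat.prime_two).2 (by decide +kernel)
  obtain ⟨A, hA⟩ := H113.PSU.Facts.exG (n := 4) hF le_rfl
  obtain ⟨B, hB, h1, -⟩ := H167.StChar.HasSt.of_hasRGD (Nodes.WittInst.hasRGD_PSU hF (p := 2) (N := 4) (by norm_num))
  obtain ⟨t, ht⟩ := exists_prime_orderOf_dvd_card' (G := PSU 4 F4 2) 2 (by rw [card_G]; norm_num)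
  have h2 := u42_cent x5 x5_card
  have h3 := u42_cent t9 t9_card
  refine van3_u42_abs card_G (Rk.perfect_of_simple not_comm) (x := pr x5) (z := pr t9) (t := t) x5_pow x5_ne
    (x5_rat _ (self_mem _)) (by omega) t9_pow (t9_dat.conj _ (self_mem _)) (by omega) (by rw [ht]) A ⟨B, hB⟩ ?_ ?_
  · have h4 : H113.PSU.Levi.uu 2 (4 - 1) = 9 := by decide
    have h5 : H113.PSU.Levi.uu 2 (4 - 2) = 3 := by decide
    rw [h4, h5] at hA
    omega
  · have h4 : (Nat.card (PSU 4 F4 2)).factorization 2 = 6 := by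
      rw [card_G, show 25920 = 2 ^ 6 * 405 from rfl, Nat.factorization_mul (by norm_num) (by norm_num),
        Nat.prime_two.factorization_pow, Finsupp.add_apply, Finsupp.single_eq_same,
        Nat.factorization_eq_zero_of_not_dvd (by norm_num)]
    rw [h4] at h1
    exact H670.PSing.charDegree_eq_of h1

end model

/-- **`U_4(2)`** -/
theorem van3_u42 (F : Type) [Field F] [Fintype F] (hF : Fintype.card F = 2 ^ 2) : Van3 (PSU 4 F 2) := by
  obtain ⟨f⟩ := SporadicStructure.PsuMatch.psu_iso_of_card (F := F) (K := SporadicA.FieldFour.F4)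
    (by rw [hF]; rfl) 4 2
  exact van3_u42_model.of_equiv f.symm

/-- **The row `IsPSU`.** -/
theorem row_psu : VAN.Row.{u} (fun G _ => IsPSU G) := row_psu_of van3_u42

end Cfsg.Agent.VAN.Lin
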