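import Cfsg.Agent.VAN.Rk.Kaw
import Cfsg.Agent.VAN.Rk.LTwo
import Cfsg.Agent.H670.OneZ.Row

/-!
# S4942: the row `PSL_n(q)` modulo `PSL_6(2)`, `PSL_7(2)` (helper78)

Two isolated primes (tori `n`, `n - 1`) and Kawanaka's sum; for `PSL_3(p)`, `p` a Mersenne prime, the second element has
order eight.
-/

set_option autoImplicit false

namespace Cfsg.Agent.VAN.Lin

open Subgroup Matrix Cfsg Cfsg.Agent.H732.VZ Cfsg.Agent.H889.PDL Cfsg.Agent.H730.OZ Cfsg.Agent.H604.OZ
open Cfsg.Agent.H670.OneZ Cfsg.Agent.H727.TC Cfsg.Agent.Characters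
open Cfsg.Agent.ClassicalGeometry.AutPSL.Root (pr pr_surjective)
open Cfsg.Agent.H999.RowPSL (Prim ker_pr)

universe u v

section abs

variable {G : Type u} [Group G] [Finite G]

/-- two Galois conjugate classes with values divisible by `r` -/
theorem two_gal (χ : IrrCharacter G) {z : G} (hz : (χ : G → ℂ) z ≠ 0) (hz1 : z ≠ 1) {k : ℕ}
    (hk : k.Coprime (Nat.card G)) (hne : ¬ IsConj z (z ^ k)) {r : ℕ} (hr : 0 < r)
    (hint : ∀ g : G, cent g = cent z → IsIntegral ℤ ((χ : G → ℂ) g / r)) : 2 * r ^ 2 < cent z := by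
  classical
  have := Fintype.ofFinite G
  set Y : Finset G := Finset.univ.filter fun g : G => cent g = cent z ∧ (χ : G → ℂ) g ≠ 0 ∧ g ≠ 1 with hY
  have hgal : H695.OneZero.Gal Y := by
    intro g hg j hj
    rw [hY, Finset.mem_filter] at hg ⊢
    refine ⟨Finset.mem_univ _, by rw [H849.OZ.card_centralizer_pow hj, hg.2.1], fun h0 => ?_, fun h1 => ?_⟩
    · obtain ⟨i, hi, hi'⟩ := H849.OZ.exists_inv (G := G) hj
      have h2 := H695.OneZero.gal_zero χ (g ^ j) (Finset.mem_filter.2 ⟨Finset.mem_univ _, h0⟩) i hi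
      rw [hi'] at h2
      exact hg.2.2.1 (Finset.mem_filter.1 h2).2
    · obtain ⟨i, -, hi'⟩ := H849.OZ.exists_inv (G := G) hj
      rw [← hi' g, h1, one_pow] at hg
      exact hg.2.2.2 rfl
  have h1 := card_mul_le χ hgal (fun g hg => (Finset.mem_filter.1 hg).2.2.1) hr
    fun g hg => hint g (Finset.mem_filter.1 hg).2.1
  have hzY : z ∈ Y := Finset.mem_filter.2 ⟨Finset.mem_univ _, rfl, hz, hz1⟩
  have hsub : ∀ g ∈ Y, (Finset.univ.filter fun y : G => IsConj g y) ⊆ Y := by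
    intro g hg y hy
    obtain ⟨-, a1, a2, a3⟩ := Finset.mem_filter.1 hg
    have hc := (Finset.mem_filter.1 hy).2
    refine Finset.mem_filter.2 ⟨Finset.mem_univ _, ?_, ?_, ?_⟩
    · have h3 := H849.OZ.card_class g
      have h4 : (Finset.univ.filter fun y' : G => IsConj g y') = Finset.univ.filter fun y' : G => IsConj y y' := by
        ext w
        rw [Finset.mem_filter, Finset.mem_filter]
        exact ⟨fun hw => ⟨Finset.mem_univ _, hc.symm.trans hw.2⟩, fun hw => ⟨Finset.mem_univ _, hc.trans hw.2⟩⟩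
      rw [h4, a1] at h3
      have h5 := H849.OZ.card_class y
      have h6 : 0 < (Finset.univ.filter fun y' : G => IsConj y y').card :=
        Finset.card_pos.2 ⟨y, Finset.mem_filter.2 ⟨Finset.mem_univ _, IsConj.refl y⟩⟩
      exact Nat.eq_of_mul_eq_mul_left h6 (h5.trans h3.symm)
    · rwa [← Core.classFunction_apply_eq (Core.isIrr_isClassFunction χ.2) hc]
    · rintro rfl
      exact a3 (isConj_one_left.1 hc)
  have hdis : Disjoint (Finset.univ.filter fun w : G => IsConj z w) (Finset.univ.filter fun w : G => IsConj (z ^ k) w) := by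
    rw [Finset.disjoint_left]
    intro w hw hw'
    exact hne ((Finset.mem_filter.1 hw).2.trans (Finset.mem_filter.1 hw').2.symm)
  have h3 := Finset.card_le_card (Finset.union_subset (hsub z hzY) (hsub _ (hgal z hzY k hk)))
  rw [Finset.card_union_of_disjoint hdis] at h3
  have h4 : 2 * Nat.card G ≤ Y.card * cent z := by
    have h5 := Nat.mul_le_mul_right (cent z) h3
    have h6 := H849.OZ.card_class (z ^ k)
    rw [H849.OZ.card_centralizer_pow hk] at h6
    rw [add_mul, H849.OZ.card_class z, h6] at h5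
    omega
  have h5 : ∑ g ∈ Y, Complex.normSq ((χ : G → ℂ) g) < Fintype.card G := by
    rw [← H695.OneZero.sum_normSq χ]
    refine Finset.sum_lt_sum_of_subset (Finset.subset_univ _) (i := 1) (Finset.mem_univ _)
      (fun h => (Finset.mem_filter.1 h).2.2.2 rfl) (Complex.normSq_pos.2 (Core.isIrr_apply_one_ne_zero χ.2))
      fun _ _ _ => Complex.normSq_nonneg _
  have h6 : Y.card * r ^ 2 < Nat.card G := by
    rw [Nat.card_eq_fintype_card]
    exact_mod_cast h1.trans_lt h5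
  by_contra h7
  have h8 : Y.card * cent z ≤ Y.card * (2 * r ^ 2) := Nat.mul_le_mul_left _ (by omega)
  have h9 : Y.card * (2 * r ^ 2) = 2 * (Y.card * r ^ 2) := by ring
  omega

/-- an element of order eight with `C(z²) ≤ C(z)` has a Galois conjugate which is not conjugate to it -/
theorem exists_gal {z : G} (h8 : z ^ 8 = 1) (h4 : z ^ 4 ≠ 1) (hc : ∀ a, Commute a (z ^ 2) → Commute a z) :
    ∃ k : ℕ, k.Coprime (Nat.card G) ∧ ¬ IsConj z (z ^ k) := by
  obtain ⟨v, m, hm, hG⟩ := Nat.exists_eq_two_pow_mul_odd (Nat.card_pos (α := G)).ne'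
  obtain ⟨t, rfl⟩ := hm
  refine ⟨1 + 4 * (2 * t + 1), ?_, fun h => ?_⟩
  · rw [hG]
    refine Nat.Coprime.mul_right (Nat.Coprime.pow_right _ (Nat.coprime_two_right.2 ⟨2 * (2 * t + 1), by ring⟩)) ?_
    rw [Nat.coprime_add_mul_right_left]
    exact Nat.coprime_one_left _
  · rw [show 1 + 4 * (2 * t + 1) = 8 * t + 5 by ring, pow_add, pow_mul, h8, one_pow, one_mul] at h
    obtain ⟨a, ha⟩ := isConj_iff.1 h
    have h1 : a * z ^ 2 * a⁻¹ = z ^ 2 := by
      rw [← conj_pow, ha, ← pow_mul, show 5 * 2 = 8 + 2 from rfl, pow_add, h8, one_mul]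
    have h2 := (hc a (mul_inv_eq_iff_eq_mul.1 h1)).eq
    rw [h2, mul_inv_cancel_right, pow_succ] at ha
    exact h4 (mul_eq_right.1 ha.symm)

end abs

variable {F : Type v} [Field F] [Fintype F] {p a n k : ℕ}

/-- **The general argument.** -/
theorem van3_psl_of (hp : p.Prime) (ha : 1 ≤ a) (hF : Fintype.card F = p ^ a) (hn : 3 ≤ n)
    (hex : ¬ (n = 3 ∧ Nat.card F = 2)) (hs : IsSimpleGroup (PS n F)) (hK : Kaw p (PS n F))
    {r₁ r₂ D₁ D₂ : ℕ} (h₁ : Prim (Nat.card F) r₁ n) (h₂ : Prim (Nat.card F) r₂ (n - 1))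
    (hD₁ : orderOf (p : ZMod r₁) = D₁) (hD₂ : orderOf (p : ZMod r₂) = D₂) (hD₁0 : 0 < D₁) (hD₂0 : 0 < D₂)
    (hv : padicValNat 2 D₁ ≠ padicValNat 2 D₂) (hl : a * (n * (n - 1)) ∣ Nat.lcm D₁ D₂) : Van3 (PS n F) := by
  have hfin : Finite (PS n F) := inferInstance
  have hq : 1 < Nat.card F := Finite.one_lt_card
  have hpF : p ∣ Nat.card F := by rw [Nat.card_eq_fintype_card, hF]; exact dvd_pow_self p (by omega)
  have e₁ := prim_ne_two hq.le h₁ (by omega)
  have e₂ := prim_ne_two hq.le h₂ (by omega)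
  obtain ⟨x, hx⟩ := Isol.of_iso (iso_top hp hpF hn h₁) e₁
  obtain ⟨y, hy⟩ := Isol.of_iso (iso_pred hp hpF hn hex h₂) e₂
  have h6 : 6 ≤ n * (n - 1) := by
    calc 6 = 3 * 2 := by norm_num
      _ ≤ n * (n - 1) := Nat.mul_le_mul hn (by omega)
  have he : 2 * (a * (n * (n - 1) / 2)) = a * (n * (n - 1)) := by
    have := Nat.div_mul_cancel (Nat.even_mul_pred_self n).two_dvd
    calc 2 * (a * (n * (n - 1) / 2)) = a * (n * (n - 1) / 2 * 2) := by ring
      _ = _ := by rw [this]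
  have hv' := fact_psl hp ha hF (show 2 ≤ n by omega)
  refine Rk.van3_of_isol hp (Nat.dvd_of_factorization_pos ?_) hK hx hy fun m e hee hm0 hm c1 c2 => ?_
  · rw [hv']
    have : 3 ≤ n * (n - 1) / 2 := by omega
    have : 0 < a * (n * (n - 1) / 2) := by positivity
    omega
  · rw [hv', he] at hm
    obtain ⟨-, h3, h4⟩ := close_two h₁.pr e₁ hD₁ hD₁0 h₂.pr e₂ hD₂ hD₂0 hv hee (m := m) (by rwa [pow_zero])
      (by rwa [pow_zero])
    have h5 := Nat.le_of_dvd hm0 (hl.trans (Nat.lcm_dvd h3 h4))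
    omega

/-- **`PSL_n(q)`, `n ≥ 3`**, except `PSL_3(2)`, `PSL_6(2)`, `PSL_7(2)` and `PSL_3(p)`, `p` a Mersenne prime. -/
theorem van3_psl_gen (hp : p.Prime) (ha : 1 ≤ a) (hF : Fintype.card F = p ^ a) (hn : 3 ≤ n)
    (hs : IsSimpleGroup (PS n F)) (hK : Kaw p (PS n F))
    (h62 : ¬ (n = 6 ∧ Fintype.card F = 2)) (h72 : ¬ (n = 7 ∧ Fintype.card F = 2))
    (hmer : ¬ (n = 3 ∧ a = 1 ∧ ∃ k, p + 1 = 2 ^ k)) (hex : ¬ (n = 3 ∧ Fintype.card F = 2)) : Van3 (PS n F) := by
  have hex' : ¬ (n = 3 ∧ Nat.card F = 2) := by rwa [Nat.card_eq_fintype_card]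
  have hFc : Nat.card F = p ^ a := by rw [Nat.card_eq_fintype_card, hF]
  have : Fact (Nat.Prime 2) := ⟨Nat.prime_two⟩
  by_cases hA : p = 2 ∧ a * n = 6
  · obtain ⟨rfl, hA⟩ := hA
    have h1 : n ≤ 6 := by nlinarith
    have h2 : n = 3 ∨ n = 6 := by
      interval_cases n <;> omega
    rcases h2 with rfl | rfl
    · obtain rfl : a = 2 := by omega
      have p7 : Nat.Prime 7 := by norm_num
      have p5 : Nat.Prime 5 := by norm_num
      refine van3_psl_of hp ha hF hn hex' hs hK (r₁ := 7) (r₂ := 5) (D₁ := 3) (D₂ := 4)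
        (by rw [hFc]; exact prim_dec p7 (by decide)) (by rw [hFc]; exact prim_dec p5 (by decide))
        (order_dec (by norm_num) p7 (by norm_num) (by decide)) (order_dec (by norm_num) p5 (by norm_num) (by decide))
        (by norm_num) (by norm_num) ?_ (by decide)
      rw [padicValNat.eq_zero_of_not_dvd (by norm_num : ¬ 2 ∣ 3), show (4 : ℕ) = 2 ^ 2 by norm_num, padicValNat.prime_pow]
      norm_num
    · obtain rfl : a = 1 := by omega
      exact absurd ⟨rfl, by rw [hF]; norm_num⟩ h62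
  by_cases hB : p = 2 ∧ a * (n - 1) = 6
  · obtain ⟨rfl, hB⟩ := hB
    have h1 : n - 1 ≤ 6 := by nlinarith
    have h2 : n = 3 ∨ n = 4 ∨ n = 7 := by
      have h3 : n ≤ 7 := by omega
      interval_cases n <;> omega
    rcases h2 with rfl | rfl | rfl
    · obtain rfl : a = 3 := by omega
      have p73 : Nat.Prime 73 := by norm_num
      have p3 : Nat.Prime 3 := by norm_num
      refine van3_psl_of hp ha hF hn hex' hs hK (r₁ := 73) (r₂ := 3) (D₁ := 9) (D₂ := 2)
        (by rw [hFc]; exact prim_dec p73 (by decide)) (by rw [hFc]; exact prim_dec p3 (by decide))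
        (order_dec (by norm_num) p73 (by norm_num) (by decide)) (order_dec (by norm_num) p3 (by norm_num) (by decide))
        (by norm_num) (by norm_num) ?_ (by decide)
      rw [padicValNat.eq_zero_of_not_dvd (by norm_num : ¬ 2 ∣ 9), padicValNat.self (by norm_num)]
      norm_num
    · obtain rfl : a = 2 := by omega
      have p17 : Nat.Prime 17 := by norm_num
      have p7 : Nat.Prime 7 := by norm_num
      refine van3_psl_of hp ha hF hn hex' hs hK (r₁ := 17) (r₂ := 7) (D₁ := 8) (D₂ := 3)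
        (by rw [hFc]; exact prim_dec p17 (by decide)) (by rw [hFc]; exact prim_dec p7 (by decide))
        (order_dec (by norm_num) p17 (by norm_num) (by decide)) (order_dec (by norm_num) p7 (by norm_num) (by decide))
        (by norm_num) (by norm_num) ?_ (by decide)
      rw [padicValNat.eq_zero_of_not_dvd (by norm_num : ¬ 2 ∣ 3), show (8 : ℕ) = 2 ^ 3 by norm_num, padicValNat.prime_pow]
      norm_num
    · obtain rfl : a = 1 := by omega
      exact absurd ⟨rfl, by rw [hF]; norm_num⟩ h72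
  have hn3 : 3 ≤ a * n := by nlinarith
  have hn2 : 2 ≤ a * (n - 1) := by
    calc 2 = 1 * 2 := by norm_num
      _ ≤ a * (n - 1) := Nat.mul_le_mul ha (by omega)
  obtain ⟨r₁, hr₁, ho₁⟩ := Cfsg.Agent.Lib.Zsigmondy.exists_prime_orderOf (a := p) (n := a * n) hp.two_le
    (by omega) (by omega) hA
  obtain ⟨r₂, hr₂, ho₂⟩ := Cfsg.Agent.Lib.Zsigmondy.exists_prime_orderOf (a := p) (n := a * (n - 1)) hp.two_le
    (by omega) (by
      intro h2
      have ha1 : a = 1 := by
        by_contra hne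
        have : 2 * 2 ≤ a * (n - 1) := Nat.mul_le_mul (by omega) (by omega)
        omega
      subst ha1
      intro hk
      exact hmer ⟨by omega, rfl, hk⟩) hB
  refine van3_psl_of hp ha hF hn hex' hs hK (r₁ := r₁) (r₂ := r₂) (D₁ := a * n) (D₂ := a * (n - 1))
    (by rw [hFc]; exact prim_pow hp ha hr₁ ho₁ (by omega)) (by rw [hFc]; exact prim_pow hp ha hr₂ ho₂ (by omega))
    ho₁ ho₂ (by omega) (by omega) ?_ ?_
  · rw [val_mul (by omega) (by omega), val_mul (by omega) (by omega)]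
    have := val_ne (n := n) (by omega)
    omega
  · rw [Nat.lcm_mul_left, Nat.Coprime.lcm_eq_mul]
    have h1 := Nat.coprime_self_sub_right (m := 1) (n := n) (by omega)
    exact h1.2 (Nat.coprime_one_right n)

theorem exists_eight (hp : p.Prime) (hF : Fintype.card F = p) (hk : 2 ≤ k) (hm : p + 1 = 2 ^ k) :
    ∃ z : PS 3 F, cent z = cent (pr (Y F) : PS 3 F) ∧ z ^ 8 = 1 ∧ z ^ 4 ≠ 1 ∧ ∀ a, Commute a (z ^ 2) → Commute a z := by
  have h2 := two_ne hp hF hk hm
  obtain ⟨z, hz⟩ := exists_Z h2 (neg_one_ne hF hk hm)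
  have hzc : z ∈ centralizer ({Y F} : Set (Matrix.SpecialLinearGroup (Fin 3) F)) := by
    rw [mem_centralizer_singleton_iff]
    rcases hz with h | h
    · rw [← h, ← pow_succ, ← pow_succ']
    · have hy : Y F = (z ^ 2)⁻¹ := by rw [h, inv_inv]
      rw [hy]
      exact ((Commute.refl z).pow_right 2).inv_right.eq
  have h0 : ∀ a : PS 3 F, Commute a ((pr z : PS 3 F) ^ 2) ↔ Commute a (pr (Y F)) := by
    intro a
    rw [← map_pow]
    rcases hz with hz | hz
    · rw [hz]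
    · rw [hz, map_inv, Commute.inv_right_iff]
  have h3 : ∀ a : PS 3 F, Commute a (pr (Y F)) → Commute a (pr z) := by
    intro a h
    obtain ⟨a, rfl⟩ := pr_surjective a
    have h3 := commute_lift (π := (pr : Matrix.SpecialLinearGroup (Fin 3) F →* _)) (by rw [ker_pr])
      (Y_four (F := F)) (by rw [ker_pr]; exact zz_coprime_two 2) h
    change _ = _
    rw [← map_mul, ← map_mul, comm_of_Y h2 (mem_centralizer_singleton_iff.2 h3) hzc]
  have h1 : centralizer ({(pr z : PS 3 F)} : Set (PS 3 F)) = centralizer {(pr (Y F) : PS 3 F)} := by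
    ext a
    rw [mem_centralizer_singleton_iff, mem_centralizer_singleton_iff]
    exact ⟨fun h => (h0 a).1 ((show Commute a (pr z) from h).pow_right 2), h3 a⟩
  refine ⟨pr z, by rw [cent, h1], ?_, fun h5 => ?_, fun a h => h3 a ((h0 a).1 h)⟩
  · rw [← map_pow, show (8 : ℕ) = 2 * 4 by norm_num, pow_mul]
    rcases hz with h | h
    · rw [h, Y_four, map_one]
    · rw [h, inv_pow, Y_four, inv_one, map_one]
  · rw [← map_pow] at h5
    have h4 : z ^ 4 ∈ (pr : Matrix.SpecialLinearGroup (Fin 3) F →* _).ker := h5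
    rw [ker_pr, show (4 : ℕ) = 2 * 2 by norm_num, pow_mul] at h4
    rcases hz with h | h
    · rw [h] at h4
      exact Y_sq_ne h2 h4
    · rw [h, inv_pow, inv_mem_iff] at h4
      exact Y_sq_ne h2 h4

/-- **`PSL_3(p)`, `p` a Mersenne prime.** -/
theorem van3_mers (hp : p.Prime) (hF : Fintype.card F = p) (hk : 2 ≤ k) (hm : p + 1 = 2 ^ k)
    (hs : IsSimpleGroup (PS 3 F)) (hK : Kaw p (PS 3 F)) : Van3 (PS 3 F) := by
  classical
  have hfin : Finite (PS 3 F) := inferInstance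
  have hFa : Fintype.card F = p ^ 1 := by rw [pow_one, hF]
  have hFc : Nat.card F = p := by rw [Nat.card_eq_fintype_card, hF]
  have h4k : 2 ^ 2 ≤ 2 ^ k := Nat.pow_le_pow_right (by norm_num) hk
  have hp3 : 3 ≤ p := by omega
  have hfac : (Nat.card (PS 3 F)).factorization p = 3 := fact_psl hp le_rfl hFa (by norm_num)
  obtain ⟨r₁, hr₁, ho₁⟩ := Cfsg.Agent.Lib.Zsigmondy.exists_prime_orderOf (a := p) (n := 3) hp.two_le
    (by omega) (by omega) (by omega)
  have hP : Prim (Nat.card F) r₁ 3 := by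
    rw [hFc]
    exact prim_of_orderOf hp.pos hr₁ ho₁ (by norm_num)
  have hr₁2 : r₁ ≠ 2 := prim_ne_two (by rw [hFc]; exact hp.pos) hP (by norm_num)
  obtain ⟨x, hx⟩ := Isol.of_iso (iso_top hp (by rw [hFc]) le_rfl hP) hr₁2
  obtain ⟨j, rfl⟩ : ∃ j, k = j + 2 := ⟨k - 2, by omega⟩
  have hpj : p = 2 * (2 ^ (j + 1) - 1) + 1 := by
    have h1 : 2 ^ (j + 2) = 2 * 2 ^ (j + 1) := by ring
    have h2 : 1 ≤ 2 ^ (j + 1) := Nat.one_le_two_pow
    omega
  obtain ⟨w, hw, hwo⟩ : ∃ w, p = 2 * w + 1 ∧ ¬ 2 ∣ w := by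
    refine ⟨2 ^ (j + 1) - 1, hpj, ?_⟩
    have h1 : 2 ^ (j + 1) = 2 * 2 ^ j := by ring
    have h2 : 1 ≤ 2 ^ j := Nat.one_le_two_pow
    omega
  have e1 : p ^ 3 - 1 = 2 * (w * (p ^ 2 + p + 1)) := by
    have : p ^ 3 = 2 * (w * (p ^ 2 + p + 1)) + 1 := by
      rw [hw]
      ring
    omega
  have e2 : p ^ 2 - 1 = 2 ^ (j + 3) * w := by
    have h1 : p ^ 2 = (p + 1) * (2 * w) + 1 := by
      rw [hw]
      ring
    rw [h1, hm, Nat.add_sub_cancel]
    ring
  have hodd : ¬ 2 ∣ p ^ 2 + p + 1 := by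
    have h1 : p ^ 2 + p + 1 = 2 * ((2 * w + 1) * (w + 1)) + 1 := by rw [hw]; ring
    omega
  have hodd2 : ¬ 2 ∣ w * (p ^ 2 + p + 1) := by
    rw [Nat.prime_two.dvd_mul]
    exact not_or.2 ⟨hwo, hodd⟩
  have hodd3 : ¬ 2 ∣ p ^ 3 * (w * (p ^ 2 + p + 1)) := by
    rw [Nat.prime_two.dvd_mul]
    refine not_or.2 ⟨fun h => ?_, hodd2⟩
    have := Nat.prime_two.dvd_of_dvd_pow h
    omega
  have hcard : zz 3 F * Nat.card (PS 3 F) = p ^ 3 * ((p ^ 2 - 1) * (p ^ 3 - 1)) := by
    have h1 := H277.CS.card_psl hF (n := 3) (by norm_num)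
    rw [zz_eq (by norm_num), hFc, h1]
    simp [Finset.prod_range_succ]
  have hcY := cent_Y hp hF hk hm
  have hidx : ∀ g : PS 3 F, cent g = cent (pr (Y F) : PS 3 F) →
      (centralizer ({g} : Set (PS 3 F))).index = 2 ^ 1 * (p ^ 3 * (w * (p ^ 2 + p + 1))) := by
    intro g hg
    have h1 := card_mul_index (centralizer ({g} : Set (PS 3 F)))
    have h2 : 0 < p ^ 2 - 1 := by
      rw [e2]
      have : 0 < w := Nat.pos_of_ne_zero fun h => by rw [h] at hwo; exact hwo (dvd_zero 2)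
      positivity
    apply Nat.eq_of_mul_eq_mul_left h2
    calc (p ^ 2 - 1) * (centralizer ({g} : Set (PS 3 F))).index
        = zz 3 F * (cent g * (centralizer ({g} : Set (PS 3 F))).index) := by rw [← hcY, hg]; ring
      _ = zz 3 F * Nat.card (PS 3 F) := by rw [cent, h1]
      _ = _ := by
          rw [hcard, e1]
          ring
  have hcls : ∀ u ∈ pSet p (PS 3 F), u ≠ 1 → 2 ^ (j + 3) ∣ (centralizer ({u} : Set (PS 3 F))).index := by
    intro u hu hu1
    have h1 := card_mul_index (centralizer ({u} : Set (PS 3 F)))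
    have h2 := not_four_cent hp hF hk hm hu hu1
    have h3 : 2 ^ (j + 4) ∣ Nat.card (PS 3 F) := by
      have h4 : 2 ^ (j + 4) ∣ zz 3 F * Nat.card (PS 3 F) := by
        rw [hcard, e1, e2]
        exact ⟨p ^ 3 * w * (w * (p ^ 2 + p + 1)), by ring⟩
      exact (zz_coprime_two (j + 4)).dvd_of_dvd_mul_left h4
    rw [← h1] at h3
    have hc0 : cent u ≠ 0 := Nat.card_pos.ne'
    have hi0 : (centralizer ({u} : Set (PS 3 F))).index ≠ 0 := index_ne_zero_of_finite
    rw [Nat.prime_two.pow_dvd_iff_le_factorization (mul_ne_zero hc0 hi0), Nat.factorization_mul hc0 hi0,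
      Finsupp.add_apply] at h3
    rw [Nat.prime_two.pow_dvd_iff_le_factorization hi0]
    have h5 : (cent u).factorization 2 < 2 := by
      by_contra hlt
      exact h2 ((Nat.prime_two.pow_dvd_iff_le_factorization (k := 2) hc0).2 (by omega))
    have h6 : (cent u).factorization 2 = (Nat.card (centralizer ({u} : Set (PS 3 F)))).factorization 2 := rfl
    omega
  obtain ⟨z, hz1, hz8, hz4, hzc⟩ := exists_eight (F := F) hp hF hk hm
  obtain ⟨i, hi, hi'⟩ := exists_gal hz8 hz4 hzc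
  have : Fact p.Prime := ⟨hp⟩
  obtain ⟨g, hg⟩ := exists_prime_orderOf_dvd_card' (G := PS 3 F) p (Nat.dvd_of_factorization_pos (by omega))
  refine Rk.van3_of_mid hp hK x z (g := g) (by rw [hg]) ?_
  rintro ψ ⟨c1, c2, m, e, he, hsum, hm0, hm6⟩
  exfalso
  have c3 := hx.cong hp ψ (hx.not_dvd ψ (isPPart_self hx.prime hx.ord) (mem_zpowers x) c1) hsum
  obtain ⟨he1, hm3⟩ := close_odd hr₁ hr₁2 ho₁ (by decide) he (m := m) (by rwa [pow_zero])
  rw [hfac] at hm6
  subst he1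
  obtain rfl : m = 3 := by omega
  have h1 : 2 ^ (j + 3) ∣ (p ^ 3 - 1) * charDegree (ψ : PS 3 F → ℂ) := by
    refine dvd_deg ψ hp.ne_zero (by positivity) ?_ hcls
    rw [hsum]
    push_cast
    ring
  have h2 : 2 ^ (1 + (j + 1)) ∣ charDegree (ψ : PS 3 F → ℂ) := by
    rw [e1, mul_assoc, show j + 3 = 1 + (1 + (j + 1)) by ring, pow_add, pow_one] at h1
    have h3 := Nat.dvd_of_mul_dvd_mul_left (by norm_num) h1
    exact (Nat.Coprime.pow_left _ ((Nat.Prime.coprime_iff_not_dvd Nat.prime_two).2 hodd2)).dvd_of_dvd_mul_left h3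
  have h3 := two_gal ψ c2 (fun h => hz4 (by rw [h, one_pow])) hi hi' (r := 2 ^ (j + 1)) (by positivity)
    fun g hg => isIntegral_div_pow _ Nat.prime_two h2 (hidx g (hg.trans hz1)) hodd3
  rw [hz1] at h3
  rw [zz_eq (by norm_num), hFc] at hcY
  have h7 : p + 1 = 2 * 2 ^ (j + 1) := by rw [hm]; ring
  have h8 : ¬ 3 ∣ 2 ^ (j + 1) := fun h => by
    have := Nat.prime_three.dvd_of_dvd_pow h
    omega
  have h9 : 2 ≤ 2 ^ (j + 1) := by omega
  generalize 2 ^ (j + 1) = t at *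
  generalize cent (pr (Y F) : PS 3 F) = c at *
  obtain ⟨t', rfl⟩ := Nat.exists_eq_add_of_le' h9
  have h11 : p = 2 * t' + 3 := by omega
  have h12 : p ^ 2 - 1 = 4 * t' ^ 2 + 12 * t' + 8 := by
    have : p ^ 2 = 4 * t' ^ 2 + 12 * t' + 8 + 1 := by rw [h11]; ring
    omega
  have h13 : (t' + 2) ^ 2 = t' ^ 2 + 4 * t' + 4 := by ring
  rw [h12] at hcY
  rw [h13] at h3
  by_cases h14 : 3 ∣ p - 1
  · rw [Nat.gcd_eq_left h14] at hcY
    omega
  · have h15 : 3 ∣ p := by
      clear * - h8 h11 h14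
      rcases (by omega : t' % 3 = 0 ∨ t' % 3 = 1 ∨ t' % 3 = 2) with h | h | h <;> omega
    have h16 := (Nat.prime_dvd_prime_iff_eq Nat.prime_three hp).1 h15
    have h17 : t' = 0 := by omega
    subst h17
    rw [← h16] at hcY
    norm_num at hcY h3
    omega

/-- **The row `IsPSL`** from `PSL_6(2)` and `PSL_7(2)`. -/
theorem row_psl_of (h67 : ∀ (F : Type) [Field F] [Fintype F] (n : ℕ), Fintype.card F = 2 → n = 6 ∨ n = 7 →
    IsSimpleGroup (PS n F) → Van3 (PS n F)) : VAN.Row.{u} (fun G _ => IsPSL G) := by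
  rintro G _ _ hs - ⟨F, _, _, n, hn, hn2, ⟨e⟩⟩
  refine Van3.of_equiv ?_ e.symm
  have hs' : IsSimpleGroup (PS n F) := (e.isSimpleGroup_congr).1 hs
  rcases Nat.lt_or_ge n 3 with h3 | h3
  · obtain rfl : n = 2 := by omega
    exact Rk.van3_psl2 (hn2 rfl)
  by_cases h1 : n = 3 ∧ Fintype.card F = 2
  · obtain ⟨rfl, hF⟩ := h1
    have : Fact (Nat.Prime 7) := ⟨by norm_num⟩
    obtain ⟨e'⟩ := Cfsg.Agent.S0255.result (F := ZMod 7) (K := F) (ZMod.card 7) hF
    exact (Rk.van3_psl2 (by rw [ZMod.card]; norm_num)).of_equiv e'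
  by_cases h2 : n = 6 ∧ Fintype.card F = 2
  · exact h67 F n h2.2 (Or.inl h2.1) hs'
  by_cases h3' : n = 7 ∧ Fintype.card F = 2
  · exact h67 F n h3'.2 (Or.inr h3'.1) hs'
  obtain ⟨p, hpF⟩ := CharP.exists F
  have hp : p.Prime := CharP.char_is_prime F p
  have : Fact p.Prime := ⟨hp⟩
  obtain ⟨a, -, ha⟩ := FiniteField.card F p
  have hK : Kaw p (PS n F) := by
    obtain ⟨m, rfl⟩ : ∃ m, n = m + 1 := ⟨n - 1, by omega⟩
    exact Cfsg.Agent.H279.OZ.kaw_of_hasRGD hp (Cfsg.Agent.Nodes.RGDClass.hasRGD_PSL m)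
  by_cases h4 : n = 3 ∧ (a : ℕ) = 1 ∧ ∃ k, p + 1 = 2 ^ k
  · obtain ⟨rfl, ha1, k, hk⟩ := h4
    rw [ha1, pow_one] at ha
    refine van3_mers hp ha ?_ hk hs' hK
    by_contra hlt
    have h5 : k = 0 ∨ k = 1 := by omega
    have := hp.two_le
    rcases h5 with rfl | rfl
    · omega
    · omega
  · exact van3_psl_gen hp a.pos ha h3 hs' hK h2 h3' h4 h1

end Cfsg.Agent.VAN.Lin
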