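import Cfsg.Agent.VAN.Rk.Kaw
import Cfsg.Agent.VAN.Rk.One
import Cfsg.Agent.H876.OZU.Main

/-!
# S4942: the row `PSU_n(q)` modulo `U_4(2)` (helper78)

Two isolated primes (tori `n`, `n - 1`) and Kawanaka's sum.
-/

set_option autoImplicit false
set_option linter.style.haveILetI false

namespace Cfsg.Agent.VAN.Lin

open Cfsg Subgroup Cfsg.Agent.H727.TC Cfsg.Agent.H448.Van Cfsg.Agent.H730.OZ Cfsg.Agent.H732.VZ
  Cfsg.Agent.H876.OZU Cfsg.Agent.ClassicalGeometry.GUBasic Cfsg.Agent.H127.UnitRoots Cfsg.Agent.H72.AdjPSU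

universe u

/-- an element of order `r` is isolated if all elements of order `r` have cyclic centralisers of order prime to `p` -/
theorem isol_of {G : Type u} [Group G] [Finite G] {p r : ℕ} (hr : r.Prime) (hr2 : r ≠ 2) (hrp : r ≠ p)
    (hc : ∀ z : G, orderOf z = r → IsCyclic ↥(centralizer ({z} : Set G)) ∧
      Nat.Coprime p (Nat.card (centralizer ({z} : Set G)))) {z : G} (hz : orderOf z = r) : Isol G p r z := by
  classical
  haveI : Fact r.Prime := ⟨hr⟩
  have hpz : IsPGroup r (zpowers z) := IsPGroup.of_card (n := 1) (by rw [Nat.card_zpowers, hz, pow_one])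
  obtain ⟨R, hR⟩ := hpz.exists_le_sylow
  have hzR : z ∈ (R : Subgroup G) := hR (mem_zpowers z)
  have hnt : Nontrivial ↥(R : Subgroup G) := by
    refine ⟨⟨⟨z, hzR⟩, 1, fun h => ?_⟩⟩
    have : z = 1 := congrArg Subtype.val h
    rw [this, orderOf_one] at hz
    exact hr.one_lt.ne hz
  have hcn : Nontrivial ↥(center ↥(R : Subgroup G)) := R.2.center_nontrivial
  have hpc : IsPGroup r ↥(center ↥(R : Subgroup G)) := R.2.to_subgroup _
  obtain ⟨x, hx⟩ : ∃ x : ↥(center ↥(R : Subgroup G)), orderOf x = r := by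
    apply exists_prime_orderOf_dvd_card'
    obtain ⟨k, hk⟩ := hpc.exists_card_eq
    rcases Nat.eq_zero_or_pos k with h0 | h0
    · rw [h0, pow_zero] at hk
      exact absurd hk (Finite.one_lt_card_iff_nontrivial.2 hcn).ne'
    · rw [hk]; exact dvd_pow_self r h0.ne'
  set w : G := ((x : ↥(R : Subgroup G)) : G) with hw
  have hwo : orderOf w = r := by rw [hw, Subgroup.orderOf_coe, Subgroup.orderOf_coe, hx]
  have hRw : (R : Subgroup G) ≤ centralizer ({w} : Set G) := by
    intro y hy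
    rw [mem_centralizer_singleton_iff]
    have := mem_center_iff.1 x.2 ⟨y, hy⟩
    exact congrArg Subtype.val this
  have hRc : IsCyclic ↥(R : Subgroup G) := by
    haveI := (hc w hwo).1
    exact isCyclic_of_injective (Subgroup.inclusion hRw) (Subgroup.inclusion_injective hRw)
  have hRz : (R : Subgroup G) ≤ centralizer ({z} : Set G) := by
    intro y hy
    rw [mem_centralizer_singleton_iff]
    have := (IsCyclic.commGroup (α := ↥(R : Subgroup G))).mul_comm ⟨y, hy⟩ ⟨z, hzR⟩
    exact congrArg Subtype.val this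
  have hC : ∀ y, Commute z y → ∀ t ∈ (R : Subgroup G), Commute t y := by
    intro y hy t ht
    haveI := (hc z hz).1
    have := (IsCyclic.commGroup (α := ↥(centralizer ({z} : Set G)))).mul_comm ⟨t, hRz ht⟩
      ⟨y, mem_centralizer_singleton_iff.2 hy.symm⟩
    exact congrArg Subtype.val this
  obtain ⟨h1, h2⟩ := central_sylow R hRc hz hzR hC
  refine ⟨hr, hr2, hrp, hz, h1, fun y hy _ => h2 y hy, ?_⟩
  rintro v hv ⟨k, hk⟩
  have hdvd : orderOf v ∣ Nat.card (centralizer ({z} : Set G)) := by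
    have := orderOf_dvd_natCard (⟨v, mem_centralizer_singleton_iff.2 hv.symm⟩ : centralizer ({z} : Set G))
    rwa [Subgroup.orderOf_mk] at this
  rw [← orderOf_eq_one_iff, hk]
  rw [hk] at hdvd
  exact Nat.Coprime.eq_one_of_dvd (Nat.Coprime.pow_left k (hc z hz).2) hdvd

variable {F : Type} [Field F] [Fintype F] {q n p : ℕ}

theorem isol_psu (hF : Fintype.card F = q ^ 2) (hn : 3 ≤ n) {r d : ℕ} (hr : r.Prime) (hr2 : r ≠ 2) [hp : Fact p.Prime]
    [CharP F p] (hd : orderOf (-(q : ZMod r)) = d) (h2 : 2 ≤ d) (hdn : d = n ∨ d + 1 = n) :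
    ∃ z, Isol (PSU n F q) p r z := by
  have hq := two_le hF
  have hrq := not_dvd_of_order hr hd h2
  have hrp : r ≠ p := by
    rintro rfl
    obtain ⟨j, hj, hj1⟩ := exists_eq_pow hF r
    exact hrq (by rw [hj]; exact dvd_pow_self r (by omega))
  have hco := coprime_succ hr hd h2
  haveI : Finite (SU n F q) := inferInstance
  haveI : Finite (PSU n F q) := inferInstance
  have hcd := fun (z : PSU n F q) (hz : orderOf z = r) => cent_data hF hn hr hrp hd h2 hdn hz
  have hblock : HasBlock F q d r := by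
    have := nu_dvd (q := q) (by omega) r
    rw [show nu q r = d from hd] at this
    exact hasBlock_nu hF (by omega) this hco
  obtain ⟨z, hz⟩ := exists_order_of_block hF hn hblock (by omega) (by omega) hco r dvd_rfl
  exact ⟨z, isol_of hr hr2 hrp (fun z hz => ⟨(hcd z hz).1, (hcd z hz).2.1⟩) hz⟩

/-- **`PSU_n(q)`**, `n ≥ 4`, not `U_4(2)` -/
theorem van3_psu (hF : Fintype.card F = q ^ 2) (hn : 4 ≤ n) (hex : ¬ (n = 4 ∧ q = 2))
    (hs : IsSimpleGroup (PSU n F q)) : Van3 (PSU n F q) := by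
  classical
  obtain ⟨p, hpF⟩ := CharP.exists F
  have hp : Fact p.Prime := ⟨CharP.char_is_prime F p⟩
  haveI : Finite (SU n F q) := inferInstance
  haveI : Finite (PSU n F q) := inferInstance
  have hK : Kaw p (PSU n F q) := H279.OZ.kaw_of_hasRGD hp.out (Nodes.RGDClass.hasRGD_of_PSU
    ⟨F, inferInstance, inferInstance, hpF, n, q, hF, by omega, by omega, ⟨MulEquiv.refl _⟩⟩)
  have hq := two_le hF
  obtain ⟨a, hqa, ha⟩ := exists_eq_pow hF p
  subst hqa
  have hv := card_fact (n := n) hF (by omega) hp.out (by omega : 0 < a)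
  have hx : 12 ≤ n * (n - 1) := by
    have := Nat.mul_le_mul hn (show 3 ≤ n - 1 by omega)
    omega
  have hev : n * (n - 1) / 2 * 2 = n * (n - 1) := Nat.div_mul_cancel (Nat.even_mul_pred_self n).two_dvd
  have h2v : 2 * (a * (n * (n - 1) / 2)) = a * (n * (n - 1)) := by
    rw [← hev]; ring_nf
    rw [Nat.mul_div_cancel _ (by norm_num)]
  obtain ⟨o, f, ho, hf, hof, hmul, hco⟩ : ∃ o f, Odd o ∧ Even f ∧
      ((o = n ∧ f + 1 = n) ∨ (f = n ∧ o + 1 = n)) ∧ o * f = n * (n - 1) ∧ Nat.Coprime o f := by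
    have hcop : Nat.Coprime n (n - 1) := by
      have := Nat.coprime_self_add_left (m := n - 1) (n := 1)
      have h3 : n - 1 + 1 = n := by omega
      rw [h3] at this
      exact this.2 (Nat.coprime_one_left _)
    rcases Nat.even_or_odd n with h | h
    · refine ⟨n - 1, n, ?_, h, Or.inr ⟨rfl, by omega⟩, mul_comm _ _, hcop.symm⟩
      rw [Nat.odd_iff]
      have := Nat.even_iff.1 h
      omega
    · refine ⟨n, n - 1, h, ?_, Or.inl ⟨rfl, by omega⟩, rfl, hcop⟩
      rw [Nat.even_iff]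
      have := Nat.odd_iff.1 h
      omega
  have hod := Nat.odd_iff.1 ho
  have hfe := Nat.even_iff.1 hf
  have ho3 : 3 ≤ o := by omega
  have hf4 : 4 ≤ f := by omega
  obtain ⟨r, hr, hr1, hr2, hr3⟩ := exists_prime (p := p) (a := a) (d := o) hp.out ha ho3 (by
    rintro ⟨h2, h6⟩
    rw [nuf_odd ho] at h6
    have h7 : a = 1 := by
      by_contra hne
      have : 2 ≤ a := by omega
      nlinarith
    subst h7 h2
    have : o = 3 := by omega
    apply hex
    constructor
    · omega
    · norm_num)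
  obtain ⟨x, hIr⟩ := isol_psu (p := p) hF (by omega : 3 ≤ n) hr (by omega) hr2 (by omega)
    (by rcases hof with ⟨h, -⟩ | ⟨-, h⟩ <;> omega)
  obtain ⟨s, Df, hs', hs1, hs2, hs3, hDf⟩ : ∃ s Df : ℕ, s.Prime ∧ orderOf (p : ZMod s) = Df ∧
      orderOf (-((p ^ a : ℕ) : ZMod s)) = f ∧ 2 < s ∧ (Df = a * nuf f ∨ (a = 2 ∧ f = 6 ∧ Df = 3)) := by
    by_cases h6 : p = 2 ∧ a * nuf f = 6
    · obtain ⟨h7, h8⟩ := h6
      have h9 : a = 2 ∧ f = 6 := by
        rcases (by omega : f % 4 = 0 ∨ f % 4 = 2) with h11 | h11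
        · rw [nuf_four h11] at h8
          exfalso
          have : a = 1 := by
            by_contra hne
            have : 2 ≤ a := by omega
            nlinarith
          subst this
          omega
        · rw [nuf_two h11] at h8
          obtain ⟨t, ht⟩ : ∃ t, f = 2 * t := ⟨f / 2, by omega⟩
          have ht2 : f / 2 = t := by omega
          rw [ht2] at h8
          have ht3 : 3 ≤ t := by omega
          have hto : t % 2 = 1 := by omega
          have ha2 : a ≤ 2 := by
            by_contra hne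
            have : 3 ≤ a := by omega
            nlinarith
          interval_cases a
          · omega
          · omega
      obtain ⟨rfl, rfl⟩ := h9
      subst h7
      refine ⟨7, 3, by norm_num, ?_, ?_, by norm_num, Or.inr ⟨rfl, rfl, rfl⟩⟩
      · haveI : Fact (Nat.Prime 3) := ⟨Nat.prime_three⟩
        exact orderOf_eq_prime (by decide) (by decide)
      · have h10 : (-((2 ^ 2 : ℕ) : ZMod 7)) = 3 := by decide
        rw [h10, orderOf_eq_iff (by norm_num)]
        refine ⟨by decide, ?_⟩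
        intro k hk hk0
        interval_cases k <;> decide
    · obtain ⟨s, hs, hs1, hs2, hs3⟩ := exists_prime (p := p) (a := a) (d := f) hp.out ha (by omega) h6
      exact ⟨s, a * nuf f, hs, hs1, hs2, hs3, Or.inl rfl⟩
  obtain ⟨y, hIs⟩ := isol_psu (p := p) hF (by omega : 3 ≤ n) hs' (by omega) hs2 (by omega)
    (by rcases hof with ⟨-, h⟩ | ⟨h, -⟩ <;> omega)
  refine Rk.van3_of_isol hp.out (Nat.dvd_of_factorization_pos ?_) hK hIr hIs fun m e he hm hm2 c1 c2 => ?_
  · rw [hv]
    have : 6 ≤ n * (n - 1) / 2 := by omega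
    exact Nat.mul_ne_zero (by omega) (by omega)
  · rw [hv, h2v] at hm2
    obtain ⟨h1, h2, h3⟩ := ords (G := PSU n F (p ^ a)) (m := m) hr1 hr3 (by rwa [pow_zero]) he
    obtain ⟨h4, h5, h6⟩ := ords (G := PSU n F (p ^ a)) (m := m) hs1 hs3 (by rwa [pow_zero]) he
    rw [nuf_odd ho] at h1 h2 h3
    exact mid_psu (by omega) ho hf (by omega) hco hm (by rw [hmul]; exact hm2) hDf h1 h4 (fun h => ⟨h2 h, h5 h⟩)
      (fun h => ⟨h3 h, h6 h⟩) he

/-- **The row `IsPSU`** from `U_4(2)`. -/
theorem row_psu_of (h42 : ∀ (F : Type) [Field F] [Fintype F], Fintype.card F = 2 ^ 2 → Van3 (PSU 4 F 2)) :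
    VAN.Row.{u} (fun G _ => IsPSU G) := by
  rintro G _ _ hs hna ⟨F, _, _, n, q, hF, hn, hex, ⟨e⟩⟩
  refine Van3.of_equiv ?_ e.symm
  by_cases hn3 : n = 3
  · subst hn3
    exact Rk.van3_psu3 hF (fun h => hex ⟨rfl, h⟩) (Rk.perfect_of_equiv (Rk.perfect_of_simple hna) e)
  by_cases h4 : n = 4 ∧ q = 2
  · obtain ⟨rfl, rfl⟩ := h4
    exact h42 F hF
  · exact van3_psu hF (by omega) h4 ((MulEquiv.isSimpleGroup_congr e).1 hs)

end Cfsg.Agent.VAN.Lin
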